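import Groth.Agent.ASKumLib.Galois

/-!
# Artin–Schreier extensions of a discretely valued field
-/

set_option autoImplicit false
set_option backward.isDefEq.respectTransparency false
set_option linter.style.haveILetI false
set_option linter.unusedSectionVars false
set_option maxHeartbeats 1000000

universe u

open Polynomial IsLocalRing

noncomputable section

namespace Groth.Agent.ASKumLib

theorem artinSchreier (p : ℕ) (hp : p.Prime) (A K L : Type u) [CommRing A] [IsDomain A]
    [IsDiscreteValuationRing A] [Field K] [Algebra A K] [IsFractionRing A K] [Field L] [Algebra K L] [Algebra A L]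
    [IsScalarTower A K L] [CharP K p] (π : A) (hπ : IsLocalRing.maximalIdeal A = Ideal.span {π})
    (ξ : K) (z : L) (hz : z ^ p - z = algebraMap K L ξ) (hgen : IntermediateField.adjoin K {z} = ⊤) :
    IsGalois K L ∧
      (Module.finrank K L = 1 ∨ (EtRam.IsUnramifiedExt A (algebraMap A L) ∧ Module.finrank K L = p) ∨
        (EtRam.IsTotallyRamified A (algebraMap A L) ∧ Module.finrank K L = p) ∨ Case4 p A (algebraMap A L)) ∧
      ((∃ a : A, algebraMap A K a = ξ) →
        Module.finrank K L = 1 ∨ (EtRam.IsUnramifiedExt A (algebraMap A L) ∧ Module.finrank K L = p)) ∧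
      (∀ (n : ℕ) (a : Aˣ), 0 < n → ¬ p ∣ n → ξ * algebraMap A K π ^ n = algebraMap A K a →
        EtRam.IsTotallyRamified A (algebraMap A L) ∧ Module.finrank K L = p) ∧
      (∀ (n : ℕ) (a : A), 0 < n → p ∣ n → (∀ r : A, IsLocalRing.residue A a ≠ IsLocalRing.residue A r ^ p) →
          ξ * algebraMap A K π ^ n = algebraMap A K a → Case4 p A (algebraMap A L)) := by
  classical
  haveI : Fact p.Prime := ⟨hp⟩
  have hπi : Irreducible π := (IsDiscreteValuationRing.irreducible_iff_uniformizer π).2 hπ
  haveI : CharP A p := (RingHom.charP_iff (algebraMap A K) (IsFractionRing.injective A K) p).2 inferInstance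
  haveI : CharP L p := charP_of_injective_algebraMap (algebraMap K L).injective p
  haveI hck : CharP (ResidueField A) p := by
    rcases CharP.exists (ResidueField A) with ⟨q, hq⟩
    have h : ((p : ℕ) : ResidueField A) = 0 := by
      rw [← map_natCast (residue A) p, CharP.cast_eq_zero, map_zero]
    have hqp : q ∣ p := (CharP.cast_eq_zero_iff (ResidueField A) q p).1 h
    rcases (Nat.dvd_prime hp).1 hqp with rfl | rfl
    · exact absurd rfl (CharP.char_ne_one (ResidueField A) 1)
    · exact hq
  let f : A[X] := X ^ p - X
  have hXdeg : (X : A[X]).degree < (X ^ p : A[X]).degree := by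
    rw [degree_X, degree_X_pow]
    exact_mod_cast hp.one_lt
  have hf : f.Monic := (monic_X_pow p).sub_of_left hXdeg
  have hdegf : f.natDegree = p := by
    rw [natDegree_eq_of_degree_eq (degree_sub_eq_left_of_degree_lt hXdeg), natDegree_X_pow]
  have hfz : ∀ z : L, aeval z f = z ^ p - z := fun z => by simp [f]
  have hder : derivative f - C (((-1 : Aˣ) : A)) = 0 := by
    simp [f, derivative_X_pow, CharP.cast_eq_zero]
  -- the degree and Galois property
  let r : Fin p → L := fun i => z + (i : ℕ)
  have hr : ∀ i, r i ^ p - r i = algebraMap K L ξ := fun i => by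
    show (z + (i : ℕ)) ^ p - (z + (i : ℕ)) = _
    rw [add_pow_char, ← frobenius_def (p := p) ((i : ℕ) : L), map_natCast, ← hz]
    ring
  have hpoly : ∀ w : L, aeval w (f.map (algebraMap A K) - C ξ) = w ^ p - w - algebraMap K L ξ := fun w => by
    rw [map_sub, aeval_map_algebraMap, hfz, aeval_C]
  have hmonK : (f.map (algebraMap A K) - C ξ).Monic := (hf.map _).sub_of_left (by
    rw [degree_map_eq_of_injective (IsFractionRing.injective A K), degree_eq_natDegree hf.ne_zero, hdegf]
    exact lt_of_le_of_lt degree_C_le (by exact_mod_cast hp.pos))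
  have hdegK : (f.map (algebraMap A K) - C ξ).natDegree = p := by
    rw [natDegree_sub_C, natDegree_map_eq_of_injective (IsFractionRing.injective A K), hdegf]
  obtain ⟨hfd, hle, -⟩ := finiteDimensional_of_gen (f.map (algebraMap A K) - C ξ) hmonK
    (by rw [hpoly, hz, sub_self]) hgen
  haveI := hfd
  rw [hdegK] at hle
  have hr0 : r ⟨0, hp.pos⟩ = z := by simp [r]
  have hgal : IsGalois K L := isGalois_of_roots hp.pos (f.map (algebraMap A K) - C ξ) hmonK hdegK r
    (fun i j h => Fin.ext (CharP.natCast_injOn_Iio L p i.2 j.2 (add_left_cancel h)))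
    (fun i => by rw [hpoly, hr, sub_self]) (by rw [hr0]; exact hgen)
  haveI := hgal
  have hσ : ∀ σ : L ≃ₐ[K] L, (σ ^ p) z = z := by
    intro σ
    have hd : (σ z - z) ^ p = σ z - z := by
      have h := congrArg σ hz
      rw [map_sub, map_pow, AlgEquiv.commutes, ← hz] at h
      rw [sub_pow_char]
      linear_combination h
    have hfix : σ (σ z - z) = σ z - z := by
      obtain ⟨m, -, hm⟩ : ∃ m : ℕ, m < p ∧ ((m : ℕ) : L) = σ z - z := by
        by_contra hne
        push Not at hne
        let q : L[X] := X ^ p - X
        have hq : q ≠ 0 := fun h => by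
          have := congrArg (fun q : L[X] => q.coeff p) h
          simp [q, coeff_X_of_ne_one hp.one_lt.ne'] at this
        let S : Finset L := insert (σ z - z) ((Finset.range p).image fun m : ℕ => (m : L))
        have hcard : S.card = p + 1 := by
          rw [Finset.card_insert_of_notMem, Finset.card_image_of_injOn, Finset.card_range]
          · intro a ha b hb h
            exact CharP.natCast_injOn_Iio L p (Finset.mem_range.1 ha) (Finset.mem_range.1 hb) h
          · simp only [Finset.mem_image, Finset.mem_range, not_exists, not_and]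
            exact hne
        have hsub : S.val ⊆ q.roots := by
          intro w hw
          rw [mem_roots hq]
          rcases Finset.mem_insert.1 (show w ∈ S from hw) with rfl | hw
          · simp [q, hd]
          · obtain ⟨m, -, rfl⟩ := Finset.mem_image.1 hw
            simp only [q, IsRoot, eval_sub, eval_pow, eval_X]
            rw [← frobenius_def (p := p) ((m : ℕ) : L), map_natCast, sub_self]
        have h2 : S.card ≤ q.natDegree := (Multiset.card_le_card ((Multiset.le_iff_subset S.nodup).2 hsub)).trans
          (card_roots' q)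
        have h3 : q.natDegree ≤ p := by
          refine (natDegree_sub_le _ _).trans ?_
          simp [hp.one_lt.le]
        omega
      rw [← hm, map_natCast]
    have key : ∀ n : ℕ, (σ ^ n) z = z + (n : L) * (σ z - z) := by
      intro n
      induction n with
      | zero => simp
      | succ n ih =>
        rw [pow_succ', AlgEquiv.mul_apply, ih, map_add, map_mul, map_natCast, hfix]
        push_cast
        ring
    rw [key, CharP.cast_eq_zero, zero_mul, add_zero]
  have hdich := finrank_eq_one_or_prime hp hle hgen hσ
  have hA : ∀ (z : L), IntermediateField.adjoin K {z} = ⊤ → ∀ a : A, z ^ p - z = algebraMap A L a →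
      Module.finrank K L = 1 ∨ EtRam.IsUnramifiedExt A (algebraMap A L) ∧ Module.finrank K L = p := fun z hg a ha =>
    case12 (K := K) hdich f hf a (by rw [hdegf]; exact hp.ne_zero) z (by rw [hfz, ha]) (-1)
      (fun n => by rw [hder, coeff_zero]; exact Ideal.zero_mem _) hg
  have tri : ∀ (n : ℕ) (z : L) (ξ : K) (a : A), IntermediateField.adjoin K {z} = ⊤ → z ^ p - z = algebraMap K L ξ →
      ξ * algebraMap A K π ^ n = algebraMap A K a →
      Module.finrank K L = 1 ∨ (EtRam.IsUnramifiedExt A (algebraMap A L) ∧ Module.finrank K L = p) ∨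
        (EtRam.IsTotallyRamified A (algebraMap A L) ∧ Module.finrank K L = p) ∨ Case4 p A (algebraMap A L) := by
    intro n
    induction n with
    | zero =>
      intro z ξ a hg hz hξ
      rw [pow_zero, mul_one] at hξ
      exact (hA z hg a (by rw [hz, hξ, ← IsScalarTower.algebraMap_apply])).imp_right Or.inl
    | succ n ih =>
      intro z ξ a hg hz hξ
      have hπ0 : algebraMap A K π ≠ 0 := (map_ne_zero_iff _ (IsFractionRing.injective A K)).2 hπi.ne_zero
      by_cases hu : IsUnit a
      swap
      · obtain ⟨a', rfl⟩ : π ∣ a := Ideal.mem_span_singleton.1 (hπ ▸ (mem_maximalIdeal a).2 hu)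
        refine ih z ξ a' hg hz (mul_right_cancel₀ hπ0 ?_)
        rw [mul_assoc, ← pow_succ, hξ, map_mul, mul_comm]
      by_cases hpn : p ∣ n + 1
      swap
      · exact Or.inr (Or.inr (Or.inl (pole_case3 hp hle f hf hdegf ξ z (by rw [hfz, hz]) hπi n.succ_pos hpn hu.unit hξ)))
      by_cases hres : ∀ r : A, residue A a ≠ residue A r ^ p
      · exact Or.inr (Or.inr (Or.inr
          (pole_case4 hp hle hck f hf hdegf ξ z (by rw [hfz, hz]) hπi n.succ_pos hpn a hres hξ).1))
      push Not at hres
      obtain ⟨r, hr'⟩ := hres
      obtain ⟨m, hm⟩ := hpn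
      have hm0 : 0 < m := Nat.pos_of_ne_zero fun h => by simp [h] at hm
      let c : K := algebraMap A K r / algebraMap A K π ^ m
      have hdm : π ∣ a - r ^ p + r * π ^ (n + 1 - m) := by
        rw [← Ideal.mem_span_singleton, ← hπ, ← residue_eq_zero_iff, map_add, map_sub, map_mul, map_pow, map_pow,
          hr', sub_self, zero_add, (residue_eq_zero_iff π).2 hπi.not_isUnit, zero_pow ?_, mul_zero]
        have : 1 * m < p * m := Nat.mul_lt_mul_of_pos_right hp.one_lt hm0
        omega
      obtain ⟨a', ha'⟩ := hdm
      refine ih (z - algebraMap K L c) (ξ - c ^ p + c) a' ?_ ?_ (mul_right_cancel₀ hπ0 ?_)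
      · refine eq_top_iff.2 (hg ▸ (IntermediateField.adjoin_le_iff.2 ?_))
        intro w hw
        rw [Set.mem_singleton_iff.1 hw]
        simpa using add_mem (IntermediateField.mem_adjoin_simple_self K (z - algebraMap K L c))
          ((IntermediateField.adjoin K {z - algebraMap K L c}).algebraMap_mem c)
      · rw [sub_pow_char, map_add, map_sub, map_pow, ← hz]
        ring
      · have hc : c * algebraMap A K π ^ m = algebraMap A K r := div_mul_cancel₀ _ (pow_ne_zero _ hπ0)
        have hmle : m ≤ n + 1 := hm ▸ Nat.le_mul_of_pos_left m hp.pos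
        have h1 : c ^ p * algebraMap A K π ^ (n + 1) = algebraMap A K r ^ p := by
          rw [hm, mul_comm p m, pow_mul, ← mul_pow, hc]
        have h2 : c * algebraMap A K π ^ (n + 1) = algebraMap A K r * algebraMap A K π ^ (n + 1 - m) := by
          rw [← hc, mul_assoc, ← pow_add, Nat.add_sub_cancel' hmle]
        have h3 := congrArg (algebraMap A K) ha'
        rw [map_add, map_sub, map_mul, map_mul, map_pow, map_pow] at h3
        rw [mul_assoc, ← pow_succ]
        linear_combination hξ - h1 + h2 + h3
  refine ⟨hgal, ?_, ?_, ?_, ?_⟩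
  · obtain ⟨⟨a, d⟩, had⟩ := IsLocalization.surj (nonZeroDivisors A) ξ
    obtain ⟨n, u, hdu⟩ := IsDiscreteValuationRing.eq_unit_mul_pow_irreducible (nonZeroDivisors.ne_zero d.2) hπi
    refine tri n z ξ (a * ↑u⁻¹) hgen hz ?_
    simp only [hdu, map_mul, map_pow] at had
    have h3 : algebraMap A K ↑u * algebraMap A K ↑u⁻¹ = 1 := by rw [← map_mul, Units.mul_inv, map_one]
    rw [map_mul, ← had]
    linear_combination (-ξ * algebraMap A K π ^ n) * h3
  · rintro ⟨a, rfl⟩
    exact hA z hgen a (by rw [hz, ← IsScalarTower.algebraMap_apply])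
  · exact fun n a hn hpn hξ => pole_case3 hp hle f hf hdegf ξ z (by rw [hfz, hz]) hπi hn hpn a hξ
  · exact fun n a hn hpn ha hξ => (pole_case4 hp hle hck f hf hdegf ξ z (by rw [hfz, hz]) hπi hn hpn a ha hξ).1

end Groth.Agent.ASKumLib
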