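import Groth.Prelude.Def_EtRam
import Mathlib

/-!
# Extensions of prime degree of a discretely valued field
-/

set_option autoImplicit false
set_option backward.isDefEq.respectTransparency false
set_option linter.style.haveILetI false
set_option linter.unusedSectionVars false
set_option maxHeartbeats 1000000
set_option synthInstance.maxHeartbeats 100000

universe u

open Polynomial IsLocalRing

noncomputable section

namespace Groth.Agent.ASKumLib

variable {A K L : Type u} [CommRing A] [IsDomain A] [IsDiscreteValuationRing A] [Field K] [Algebra A K]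
  [IsFractionRing A K] [Field L] [Algebra K L] [Algebra A L] [IsScalarTower A K L]

/-- The fourth case of the classification. -/
def Case4 (p : ℕ) (A : Type u) [CommRing A] [IsLocalRing A] {L : Type u} [Field L] (g : A →+* L) : Prop :=
  (∃ V : ValuationSubring L, EtRam.Dominates A g V) ∧
    (∀ V V' : ValuationSubring L, EtRam.Dominates A g V → EtRam.Dominates A g V' → V = V') ∧
    ∀ (V : ValuationSubring L) (h : EtRam.Dominates A g V),
      letI : Algebra A V := (RingHom.codRestrict g V h.1).toAlgebra
      ∀ [IsLocalHom (algebraMap A V)],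
        EtRam.IsWeaklyUnramified A V ∧
          IsPurelyInseparable (IsLocalRing.ResidueField A) (IsLocalRing.ResidueField V) ∧
          Module.finrank (IsLocalRing.ResidueField A) (IsLocalRing.ResidueField V) = p

theorem val_le_one {V : ValuationSubring L} (hV : EtRam.Dominates A (algebraMap A L) V) (a : A) :
    V.valuation (algebraMap A L a) ≤ 1 := (V.valuation_le_one_iff _).2 (hV.1 a)

theorem val_unit {V : ValuationSubring L} (hV : EtRam.Dominates A (algebraMap A L) V) (a : Aˣ) :
    V.valuation (algebraMap A L a) = 1 := by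
  refine le_antisymm (val_le_one hV _) ?_
  have h : V.valuation (algebraMap A L a) * V.valuation (algebraMap A L (a⁻¹ : Aˣ)) = 1 := by
    rw [← map_mul, ← map_mul, Units.mul_inv, map_one, map_one]
  exact h.symm.trans_le (mul_le_of_le_one_right' (val_le_one hV _))

include K in
theorem injective_algebraMap' : Function.Injective (algebraMap A L) := by
  rw [IsScalarTower.algebraMap_eq A K L]
  exact (algebraMap K L).injective.comp (IsFractionRing.injective A K)

include K in
/-- A valuation ring dominating the base exists. -/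
theorem exists_dominates : ∃ V : ValuationSubring L, EtRam.Dominates A (algebraMap A L) V := by
  let g := algebraMap A L
  have hg : Function.Injective g := injective_algebraMap' (K := K)
  let e : A ≃+* g.range := RingEquiv.ofBijective g.rangeRestrict
    ⟨fun a b h => hg (congrArg Subtype.val h), g.rangeRestrict_surjective⟩
  let I : Ideal g.range := (maximalIdeal A).comap e.symm.toRingHom
  have hI : I ≠ ⊤ := (Ideal.comap_isMaximal_of_surjective _ e.symm.surjective).ne_top
  obtain ⟨V, hV, hIV⟩ := Ideal.image_subset_nonunits_valuationSubring I hI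
  refine ⟨V, fun a => hV ⟨a, rfl⟩, fun a ha => ?_⟩
  refine hIV ⟨e a, ?_, rfl⟩
  show e.symm (e a) ∈ maximalIdeal A
  rwa [e.symm_apply_apply]

variable [FiniteDimensional K L]

include K in
/-- An element of norm one third: `y` whose `p`-th power has the valuation of a uniformizer gives total ramification. -/
theorem totallyRamified_of_root {p : ℕ} (hp : 0 < p) (hdeg : Module.finrank K L ≤ p) {π : A} (hπ : Irreducible π)
    (y : L) (hy : ∀ V : ValuationSubring L, EtRam.Dominates A (algebraMap A L) V →
      V.valuation y ^ p = V.valuation (algebraMap A L π)) :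
    EtRam.IsTotallyRamified A (algebraMap A L) ∧ Module.finrank K L = p := by
  classical
  have hgi : Function.Injective (algebraMap A L) := injective_algebraMap' (K := K)
  -- valuations of monomials
  have key : ∀ V : ValuationSubring L, EtRam.Dominates A (algebraMap A L) V → ∀ (i : Fin p) (k : ℕ) (u : Aˣ),
      V.valuation (algebraMap A L (u * π ^ k) * y ^ (i : ℕ)) = V.valuation y ^ (p * k + i) := by
    intro V hV i k u
    rw [map_mul, map_mul, map_mul, val_unit hV, one_mul, map_pow, map_pow, map_pow, ← hy V hV, pow_add, pow_mul]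
  have hlt : ∀ V : ValuationSubring L, EtRam.Dominates A (algebraMap A L) V →
      V.valuation y < 1 ∧ 0 < V.valuation y := by
    intro V hV
    have h1 : V.valuation y ^ p < 1 := hy V hV ▸ hV.2 π hπ.not_isUnit
    refine ⟨lt_of_not_ge fun h => absurd h1 (not_lt.2 (one_le_pow_of_one_le' h p)), zero_lt_iff.2 fun h => ?_⟩
    have h2 := hy V hV
    rw [h, zero_pow hp.ne', eq_comm, map_eq_zero, map_eq_zero_iff _ hgi] at h2
    exact hπ.ne_zero h2
  -- the valuation of a combination is that of its largest term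
  have main : ∀ V : ValuationSubring L, EtRam.Dominates A (algebraMap A L) V → ∀ a : Fin p → A, (∃ i, a i ≠ 0) →
      ∃ i, a i ≠ 0 ∧ ∃ (k : ℕ) (u : Aˣ), a i = u * π ^ k ∧
        V.valuation (∑ i, algebraMap A L (a i) * y ^ (i : ℕ)) = V.valuation y ^ (p * k + i) ∧
          (∀ j, a j ≠ 0 → ∃ (l : ℕ) (w : Aˣ), a j = w * π ^ l ∧ p * k + (i : ℕ) ≤ p * l + j) := by
    intro V hV a ha
    have hdec : ∀ j, a j ≠ 0 → ∃ l : ℕ, ∃ w : Aˣ, a j = w * π ^ l := fun j hj =>
      IsDiscreteValuationRing.eq_unit_mul_pow_irreducible hj hπ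
    choose! l w hlw using hdec
    obtain ⟨i, hi, hmin⟩ := (Finset.univ.filter fun j => a j ≠ 0).exists_min_image (fun j => p * l j + (j : ℕ))
      (by obtain ⟨i, hi⟩ := ha; exact ⟨i, by simpa using hi⟩)
    rw [Finset.mem_filter] at hi
    refine ⟨i, hi.2, l i, w i, hlw i hi.2, ?_, fun j hj => ⟨l j, w j, hlw j hj, hmin j (by simp [hj])⟩⟩
    have hterm : V.valuation (algebraMap A L (a i) * y ^ (i : ℕ)) = V.valuation y ^ (p * l i + i) := by
      rw [hlw i hi.2, key V hV]
    rw [← hterm]
    refine Valuation.map_sum_eq_of_lt _ (Finset.mem_univ i) fun j hj => ?_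
    rw [Finset.mem_sdiff, Finset.mem_singleton] at hj
    rcases eq_or_ne (a j) 0 with h0 | h0
    · rw [h0, map_zero, zero_mul, map_zero, hterm]
      exact pow_pos (hlt V hV).2 _
    · rw [hterm, hlw j h0, key V hV]
      refine pow_lt_pow_right_of_lt_one₀ (hlt V hV).2 (hlt V hV).1 (lt_of_le_of_ne (hmin j (by simp [h0])) fun h => hj.2 ?_)
      refine Fin.ext ?_
      have h2 := congrArg (· % p) h
      simp only [Nat.mul_add_mod, Nat.mod_eq_of_lt i.2, Nat.mod_eq_of_lt j.2] at h2
      exact h2.symm
  obtain ⟨V₀, hV₀⟩ := exists_dominates (A := A) (K := K) (L := L)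
  have hne : ∀ a : Fin p → A, (∃ i, a i ≠ 0) → ∑ i, algebraMap A L (a i) * y ^ (i : ℕ) ≠ 0 := fun a ha h => by
    obtain ⟨i, -, k, u, -, hval, -⟩ := main V₀ hV₀ a ha
    rw [h, map_zero] at hval
    exact (pow_pos (hlt V₀ hV₀).2 _).ne hval
  have hliA : LinearIndependent A fun i : Fin p => y ^ (i : ℕ) := Fintype.linearIndependent_iff.2 fun a ha => by
    by_contra! h
    exact hne a h (by simpa [Algebra.smul_def] using ha)
  have hli : LinearIndependent K fun i : Fin p => y ^ (i : ℕ) := (LinearIndependent.iff_fractionRing A K).1 hliA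
  have hfin : Module.finrank K L = p := le_antisymm hdeg (by simpa using hli.fintype_card_le_finrank)
  have hrepr : ∀ x : L, ∃ d : A, d ≠ 0 ∧ ∃ a : Fin p → A,
      algebraMap A L d * x = ∑ i, algebraMap A L (a i) * y ^ (i : ℕ) := by
    intro x
    haveI : Nonempty (Fin p) := ⟨⟨0, hp⟩⟩
    let b := basisOfLinearIndependentOfCardEqFinrank hli (by rw [Fintype.card_fin, hfin])
    obtain ⟨⟨d, hd⟩, h⟩ := IsLocalization.exist_integer_multiples_of_finite (nonZeroDivisors A) (fun i => b.repr x i)
    choose a ha using h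
    refine ⟨d, nonZeroDivisors.ne_zero hd, a, ?_⟩
    conv_lhs => rw [← b.sum_repr x, Finset.mul_sum]
    refine Finset.sum_congr rfl fun i _ => ?_
    rw [coe_basisOfLinearIndependentOfCardEqFinrank, Algebra.smul_def, ← mul_assoc,
      IsScalarTower.algebraMap_apply A K L, IsScalarTower.algebraMap_apply A K L, ← map_mul, ha i, Algebra.smul_def]
  -- membership in a dominating valuation ring
  have hmem : ∀ V : ValuationSubring L, EtRam.Dominates A (algebraMap A L) V → ∀ x ∈ V, ∃ a : Fin p → A,
      x = ∑ i, algebraMap A L (a i) * y ^ (i : ℕ) := by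
    intro V hV x hx
    obtain ⟨d, hd, a, ha⟩ := hrepr x
    obtain ⟨m, w, rfl⟩ := IsDiscreteValuationRing.eq_unit_mul_pow_irreducible hd hπ
    by_cases hall : ∀ i, a i = 0
    · refine ⟨0, ?_⟩
      simp only [hall, map_zero, zero_mul, Finset.sum_const_zero] at ha
      rw [(mul_eq_zero.1 ha).resolve_left ((map_ne_zero_iff _ hgi).2 hd)]
      simp
    push Not at hall
    obtain ⟨i, hi, k, u, hik, hval, hmin⟩ := main V hV a hall
    rw [← ha, map_mul, map_mul, map_mul, val_unit hV, one_mul, map_pow, map_pow, ← hy V hV, ← pow_mul] at hval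
    have hge : p * m ≤ p * k + i := by
      by_contra! h
      have h1 : V.valuation y ^ (p * m) * V.valuation x ≤ V.valuation y ^ (p * m) := by
        exact mul_le_of_le_one_right' ((V.valuation_le_one_iff x).2 hx)
      rw [hval] at h1
      exact absurd h1 (not_le.2 (pow_lt_pow_right_of_lt_one₀ (hlt V hV).2 (hlt V hV).1 h))
    have hdvd : ∀ j, π ^ m ∣ a j := fun j => by
      rcases eq_or_ne (a j) 0 with h0 | h0
      · rw [h0]; exact dvd_zero _
      obtain ⟨l, w', hl, hle⟩ := hmin j h0
      rw [hl]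
      refine Dvd.dvd.mul_left (pow_dvd_pow π ?_) _
      by_contra! hlm
      have : p * (l + 1) ≤ p * m := Nat.mul_le_mul_left p hlm
      have := j.2
      rw [mul_add, mul_one] at *
      omega
    choose c hc using hdvd
    refine ⟨fun j => ↑w⁻¹ * c j, mul_left_cancel₀ ((map_ne_zero_iff _ hgi).2 hd) ?_⟩
    rw [ha, Finset.mul_sum]
    refine Finset.sum_congr rfl fun j _ => ?_
    rw [← mul_assoc, ← map_mul, hc j]
    congr 2
    rw [mul_mul_mul_comm, Units.mul_inv, one_mul]
  have hsub : ∀ V : ValuationSubring L, EtRam.Dominates A (algebraMap A L) V → ∀ a : Fin p → A,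
      ∑ i, algebraMap A L (a i) * y ^ (i : ℕ) ∈ V := fun V hV a => sum_mem fun i _ =>
    mul_mem (hV.1 _) (pow_mem ((V.valuation_le_one_iff y).1 (hlt V hV).1.le) _)
  refine ⟨⟨⟨V₀, hV₀⟩, fun V V' hV hV' => SetLike.ext fun x => ?_, fun V hV z => ?_⟩, hfin⟩
  · exact ⟨fun hx => by obtain ⟨a, rfl⟩ := hmem V hV x hx; exact hsub V' hV' a,
      fun hx => by obtain ⟨a, rfl⟩ := hmem V' hV' x hx; exact hsub V hV a⟩
  · obtain ⟨⟨x, hx⟩, rfl⟩ := residue_surjective z
    obtain ⟨a, ha⟩ := hmem V hV x hx
    refine ⟨a ⟨0, hp⟩, ?_⟩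
    rw [eq_comm, ← sub_eq_zero, ← map_sub, residue_eq_zero_iff, V.valuation_lt_one_iff]
    show V.valuation (x - algebraMap A L (a ⟨0, hp⟩)) < 1
    rw [ha, Finset.sum_eq_add_sum_sdiff_singleton_of_mem (Finset.mem_univ (⟨0, hp⟩ : Fin p))]
    simp only [pow_zero, mul_one, add_sub_cancel_left]
    refine V.valuation.map_sum_lt one_ne_zero fun j hj => ?_
    rw [Finset.mem_sdiff, Finset.mem_singleton] at hj
    rw [map_mul, map_pow]
    exact lt_of_le_of_lt (mul_le_of_le_one_left' (val_le_one hV _))
      (pow_lt_one₀ zero_le' (hlt V hV).1 fun h => hj.2 (Fin.ext h))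

include K in
/-- An element with residue a `p`-th root of a non-`p`-th power gives the inseparable residue case. -/
theorem case4_of_root {p : ℕ} (hp : p.Prime) (hdeg : Module.finrank K L ≤ p) {π : A} (hπ : Irreducible π)
    (hchar : CharP (ResidueField A) p) (a₀ : A) (ha₀ : ∀ r : A, residue A a₀ ≠ residue A r ^ p)
    (y : L) (hy : ∀ V : ValuationSubring L, EtRam.Dominates A (algebraMap A L) V →
      V.valuation (y ^ p - algebraMap A L a₀) < 1) :
    Case4 p A (algebraMap A L) ∧ Module.finrank K L = p := by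
  classical
  have hgi : Function.Injective (algebraMap A L) := injective_algebraMap' (K := K)
  let k := ResidueField A
  have hirr : Irreducible (X ^ p - C (residue A a₀) : k[X]) := X_pow_sub_C_irreducible_of_prime hp fun r => by
    obtain ⟨r, rfl⟩ := residue_surjective r
    exact (ha₀ r).symm
  have hyV : ∀ V : ValuationSubring L, EtRam.Dominates A (algebraMap A L) V → y ∈ V := fun V hV => by
    refine (V.valuation_le_one_iff y).1 (le_of_not_gt fun h => ?_)
    have h1 : (1 : V.ValueGroup) < V.valuation (y ^ p) := by rw [map_pow]; exact one_lt_pow₀ h hp.ne_zero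
    have h2 := lt_of_le_of_lt (val_le_one hV a₀) h1
    exact absurd ((Valuation.map_sub_eq_of_lt_left _ h2) ▸ hy V hV) (not_lt.2 h1.le)
  -- combinations with a unit coefficient have valuation one
  have key : ∀ V : ValuationSubring L, EtRam.Dominates A (algebraMap A L) V → ∀ a : Fin p → A,
      V.valuation (∑ i, algebraMap A L (a i) * y ^ (i : ℕ)) < 1 → ∀ i, a i ∈ maximalIdeal A := by
    intro V hV a hlt
    letI : Algebra A V := (RingHom.codRestrict (algebraMap A L) V hV.1).toAlgebra
    haveI : IsLocalHom (algebraMap A V) := ⟨fun r hr => by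
      by_contra hnu
      have h1 := (V.valuation_lt_one_iff (algebraMap A V r)).2 (hV.2 r hnu)
      exact h1 hr⟩
    let yb : ResidueField V := residue V ⟨y, hyV V hV⟩
    have hyb : yb ^ p = algebraMap k (ResidueField V) (residue A a₀) := by
      show residue V _ ^ p = residue V (algebraMap A V a₀)
      rw [← map_pow, ← sub_eq_zero, ← map_sub, residue_eq_zero_iff, V.valuation_lt_one_iff]
      exact hy V hV
    have hmin : minpoly k yb = X ^ p - C (residue A a₀) :=
      (minpoly.eq_of_irreducible_of_monic hirr (by rw [map_sub, map_pow, aeval_X, aeval_C, hyb, sub_self])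
        (monic_X_pow_sub_C _ hp.ne_zero)).symm
    have hli := linearIndependent_pow (K := k) yb
    rw [hmin, natDegree_X_pow_sub_C] at hli
    intro i
    have hsum : ∑ j, residue A (a j) • yb ^ (j : ℕ) = 0 := by
      have h0 : residue V (∑ j, algebraMap A V (a j) * (⟨y, hyV V hV⟩ : V) ^ (j : ℕ)) = 0 := by
        rw [residue_eq_zero_iff, V.valuation_lt_one_iff]
        refine lt_of_eq_of_lt (congrArg V.valuation ?_) hlt
        rw [AddSubmonoidClass.coe_finsetSum]
        rfl
      rw [map_sum] at h0
      refine Eq.trans (Finset.sum_congr rfl fun j _ => ?_) h0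
      rw [map_mul, map_pow, Algebra.smul_def]
      rfl
    exact (residue_eq_zero_iff _).1 (Fintype.linearIndependent_iff.1 hli _ hsum i)
  obtain ⟨V₀, hV₀⟩ := exists_dominates (A := A) (K := K) (L := L)
  have hsub : ∀ V : ValuationSubring L, EtRam.Dominates A (algebraMap A L) V → ∀ a : Fin p → A,
      ∑ i, algebraMap A L (a i) * y ^ (i : ℕ) ∈ V := fun V hV a => sum_mem fun i _ =>
    mul_mem (hV.1 _) (pow_mem (hyV V hV) _)
  have hscale : ∀ a : Fin p → A, (∃ i, a i ≠ 0) → ∃ (m : ℕ) (b : Fin p → A) (i : Fin p),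
      (∀ j, a j = π ^ m * b j) ∧ IsUnit (b i) := by
    intro a ha
    have hdec : ∀ j, a j ≠ 0 → ∃ l : ℕ, ∃ w : Aˣ, a j = w * π ^ l := fun j hj =>
      IsDiscreteValuationRing.eq_unit_mul_pow_irreducible hj hπ
    choose! l w hlw using hdec
    obtain ⟨i, hi, hmin⟩ := (Finset.univ.filter fun j => a j ≠ 0).exists_min_image l
      (by obtain ⟨i, hi⟩ := ha; exact ⟨i, by simpa using hi⟩)
    rw [Finset.mem_filter] at hi
    have hdvd : ∀ j, π ^ l i ∣ a j := fun j => by
      rcases eq_or_ne (a j) 0 with h0 | h0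
      · rw [h0]; exact dvd_zero _
      rw [hlw j h0]
      exact Dvd.dvd.mul_left (pow_dvd_pow π (hmin j (by simp [h0]))) _
    choose b hb using hdvd
    refine ⟨l i, b, i, hb, ⟨w i, mul_left_cancel₀ (pow_ne_zero (l i) hπ.ne_zero) ?_⟩⟩
    rw [← hb i, mul_comm, ← hlw i hi.2]
  have hval : ∀ V : ValuationSubring L, EtRam.Dominates A (algebraMap A L) V → ∀ (b : Fin p → A) (i : Fin p),
      IsUnit (b i) → V.valuation (∑ i, algebraMap A L (b i) * y ^ (i : ℕ)) = 1 := fun V hV b i hi =>
    le_antisymm ((V.valuation_le_one_iff _).2 (hsub V hV b))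
      (not_lt.1 fun h => (mem_maximalIdeal _).1 (key V hV b h i) hi)
  have hne : ∀ a : Fin p → A, (∃ i, a i ≠ 0) → ∑ i, algebraMap A L (a i) * y ^ (i : ℕ) ≠ 0 := fun a ha h => by
    obtain ⟨m, b, i, hb, hi⟩ := hscale a ha
    simp only [hb, map_mul, mul_assoc, ← Finset.mul_sum] at h
    have h1 := hval V₀ hV₀ b i hi
    rw [(mul_eq_zero.1 h).resolve_left ((map_ne_zero_iff _ hgi).2 (pow_ne_zero m hπ.ne_zero)), map_zero] at h1
    exact zero_ne_one h1
  have hliA : LinearIndependent A fun i : Fin p => y ^ (i : ℕ) := Fintype.linearIndependent_iff.2 fun a ha => by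
    by_contra! h
    exact hne a h (by simpa [Algebra.smul_def] using ha)
  have hli : LinearIndependent K fun i : Fin p => y ^ (i : ℕ) := (LinearIndependent.iff_fractionRing A K).1 hliA
  have hfin : Module.finrank K L = p := le_antisymm hdeg (by simpa using hli.fintype_card_le_finrank)
  have hmem : ∀ V : ValuationSubring L, EtRam.Dominates A (algebraMap A L) V → ∀ x ∈ V, ∃ a : Fin p → A,
      x = ∑ i, algebraMap A L (a i) * y ^ (i : ℕ) := by
    intro V hV x hx
    haveI : Nonempty (Fin p) := ⟨⟨0, hp.pos⟩⟩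
    let b := basisOfLinearIndependentOfCardEqFinrank hli (by rw [Fintype.card_fin, hfin])
    obtain ⟨⟨d, hd⟩, h⟩ := IsLocalization.exist_integer_multiples_of_finite (nonZeroDivisors A) (fun i => b.repr x i)
    choose a ha using h
    have hx' : algebraMap A L d * x = ∑ i, algebraMap A L (a i) * y ^ (i : ℕ) := by
      conv_lhs => rw [← b.sum_repr x, Finset.mul_sum]
      refine Finset.sum_congr rfl fun i _ => ?_
      rw [coe_basisOfLinearIndependentOfCardEqFinrank, Algebra.smul_def, ← mul_assoc,
        IsScalarTower.algebraMap_apply A K L, IsScalarTower.algebraMap_apply A K L, ← map_mul, ha i, Algebra.smul_def]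
    have hd0 : algebraMap A L d ≠ 0 := (map_ne_zero_iff _ hgi).2 (nonZeroDivisors.ne_zero hd)
    by_cases hall : ∀ i, a i = 0
    · refine ⟨0, ?_⟩
      simp only [hall, map_zero, zero_mul, Finset.sum_const_zero] at hx'
      rw [(mul_eq_zero.1 hx').resolve_left hd0]
      simp
    push Not at hall
    obtain ⟨m, c, i, hc, hi⟩ := hscale a hall
    obtain ⟨m', w, hdw⟩ := IsDiscreteValuationRing.eq_unit_mul_pow_irreducible (nonZeroDivisors.ne_zero hd) hπ
    simp only [hc, map_mul, mul_assoc, ← Finset.mul_sum] at hx'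
    have hle : m' ≤ m := by
      by_contra! h
      have h1 := congrArg V.valuation hx'
      rw [map_mul, map_mul, hval V hV c i hi, mul_one, hdw, map_mul, map_mul, val_unit hV, one_mul, map_pow, map_pow,
        map_pow, map_pow] at h1
      have hπ1 := hV.2 π hπ.not_isUnit
      have hπ0 : 0 < V.valuation (algebraMap A L π) := zero_lt_iff.2 fun h0 => by
        rw [map_eq_zero, map_eq_zero_iff _ hgi] at h0
        exact hπ.ne_zero h0
      have h2 := pow_lt_pow_right_of_lt_one₀ hπ0 hπ1 h
      exact absurd h1 (lt_of_le_of_lt (mul_le_of_le_one_right' ((V.valuation_le_one_iff x).2 hx)) h2).ne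
    refine ⟨fun j => ↑w⁻¹ * (π ^ (m - m') * c j), mul_left_cancel₀ hd0 ?_⟩
    rw [hx', Finset.mul_sum, Finset.mul_sum]
    refine Finset.sum_congr rfl fun j _ => ?_
    rw [← mul_assoc, ← mul_assoc, ← map_mul, ← map_mul, hdw]
    congr 2
    rw [mul_mul_mul_comm, Units.mul_inv, one_mul, ← mul_assoc, ← pow_add, Nat.add_sub_cancel' hle]
  refine ⟨⟨⟨V₀, hV₀⟩, fun V V' hV hV' => SetLike.ext fun x =>
    ⟨fun hx => by obtain ⟨a, rfl⟩ := hmem V hV x hx; exact hsub V' hV' a,
      fun hx => by obtain ⟨a, rfl⟩ := hmem V' hV' x hx; exact hsub V hV a⟩, ?_⟩, hfin⟩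
  intro V hV
  letI : Algebra A V := (RingHom.codRestrict (algebraMap A L) V hV.1).toAlgebra
  intro hloc
  haveI := hloc
  have hgenV : ∀ z : ResidueField V, ∃ a : Fin p → A,
      z = ∑ j, residue A (a j) • residue V ⟨y, hyV V hV⟩ ^ (j : ℕ) := by
    intro z
    obtain ⟨⟨x, hx⟩, rfl⟩ := residue_surjective z
    obtain ⟨a, ha⟩ := hmem V hV x hx
    refine ⟨a, ?_⟩
    rw [show (⟨x, hx⟩ : V) = ∑ j, algebraMap A V (a j) * (⟨y, hyV V hV⟩ : V) ^ (j : ℕ) from Subtype.ext (by
      rw [AddSubmonoidClass.coe_finsetSum]; exact ha), map_sum]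
    refine Finset.sum_congr rfl fun j _ => ?_
    rw [map_mul, map_pow, Algebra.smul_def]
    rfl
  have hyb : residue V (⟨y, hyV V hV⟩ : V) ^ p = algebraMap k (ResidueField V) (residue A a₀) := by
    show residue V _ ^ p = residue V (algebraMap A V a₀)
    rw [← map_pow, ← sub_eq_zero, ← map_sub, residue_eq_zero_iff, V.valuation_lt_one_iff]
    exact hy V hV
  refine ⟨?_, ?_, ?_⟩
  · refine le_antisymm (Ideal.map_le_iff_le_comap.2 fun r hr => ?_) fun v hv => ?_
    · exact map_nonunit (algebraMap A V) r hr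
    · obtain ⟨a, ha⟩ := hmem V hV v v.2
      have h1 : V.valuation (∑ i, algebraMap A L (a i) * y ^ (i : ℕ)) < 1 := ha ▸ (V.valuation_lt_one_iff v).1 hv
      rw [show v = ∑ j, algebraMap A V (a j) * (⟨y, hyV V hV⟩ : V) ^ (j : ℕ) from Subtype.ext (by
        rw [AddSubmonoidClass.coe_finsetSum]; exact ha)]
      exact sum_mem fun j _ => Ideal.mul_mem_right _ _ (Ideal.mem_map_of_mem _ (key V hV a h1 j))
  · haveI := hchar
    haveI : ExpChar k p := ExpChar.prime hp
    haveI : ExpChar (ResidueField V) p := expChar_of_injective_algebraMap (algebraMap k (ResidueField V)).injective p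
    rw [isPurelyInseparable_iff_pow_mem k p]
    intro z
    obtain ⟨a, rfl⟩ := hgenV z
    refine ⟨1, ?_⟩
    rw [pow_one, sum_pow_char]
    refine sum_mem fun j _ => ?_
    rw [Algebra.smul_def, mul_pow, ← pow_mul, mul_comm (j : ℕ) p, pow_mul, hyb]
    exact mul_mem (pow_mem (RingHom.mem_range_self _ _) _) (pow_mem (RingHom.mem_range_self _ _) _)
  · have hli' : LinearIndependent k fun j : Fin p => residue V (⟨y, hyV V hV⟩ : V) ^ (j : ℕ) := by
      have hmin : minpoly k (residue V (⟨y, hyV V hV⟩ : V)) = X ^ p - C (residue A a₀) :=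
        (minpoly.eq_of_irreducible_of_monic hirr (by rw [map_sub, map_pow, aeval_X, aeval_C, hyb, sub_self])
        (monic_X_pow_sub_C _ hp.ne_zero)).symm
      have h := linearIndependent_pow (K := k) (residue V (⟨y, hyV V hV⟩ : V))
      rw [hmin, natDegree_X_pow_sub_C] at h
      exact h
    have hsp : ⊤ ≤ Submodule.span k (Set.range fun j : Fin p => residue V (⟨y, hyV V hV⟩ : V) ^ (j : ℕ)) := by
      rintro z -
      obtain ⟨a, rfl⟩ := hgenV z
      exact sum_mem fun j _ => Submodule.smul_mem _ _ (Submodule.subset_span ⟨j, rfl⟩)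
    rw [Module.finrank_eq_card_basis (Module.Basis.mk hli' hsp), Fintype.card_fin]

/-- A root of a monic polynomial with invertible derivative generates an unramified extension. -/
theorem unramified_of_root (f : A[X]) (hf : f.Monic) (z : L) (hz : aeval z f = 0)
    (c : Aˣ) (hder : ∀ n, (derivative f - C (c : A)).coeff n ∈ maximalIdeal A)
    (hgen : IntermediateField.adjoin K {z} = ⊤) :
    EtRam.IsUnramifiedExt A (algebraMap A L) := by
  classical
  intro V hV
  letI : Algebra A V := (RingHom.codRestrict (algebraMap A L) V hV.1).toAlgebra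
  haveI : IsScalarTower A V L := IsScalarTower.of_algebraMap_eq fun _ => rfl
  intro hloc
  haveI := hloc
  have hzV : z ∈ V := by
    obtain ⟨w, hw⟩ := IsIntegrallyClosed.isIntegral_iff.1
      (IsIntegral.tower_top (A := V) (⟨f, hf, by simpa [aeval_def] using hz⟩ : IsIntegral A z))
    rw [← hw]; exact w.2
  let zv : V := ⟨z, hzV⟩
  have hzv : aeval zv f = 0 := Subtype.ext (by
    have := aeval_algebraMap_apply L zv f
    exact (this.symm.trans hz))
  have hu : IsUnit (aeval zv (derivative f)) := by
    have hmem : aeval zv (derivative f - C (c : A)) ∈ maximalIdeal V := by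
      rw [aeval_eq_sum_range]
      refine sum_mem fun n _ => ?_
      rw [Algebra.smul_def]
      exact Ideal.mul_mem_right _ _ (map_nonunit (algebraMap A V) _ (hder n))
    rw [map_sub, aeval_C] at hmem
    by_contra h
    exact (mem_maximalIdeal _).1 (sub_sub_cancel (aeval zv (derivative f)) (algebraMap A V c) ▸ sub_mem h hmem)
      (c.isUnit.map _)
  let P : StandardEtalePair A := ⟨f, hf, derivative f, ⟨1, 0, 1, by rw [mul_one, mul_zero, add_zero, pow_one]⟩⟩
  let φ₀ : P.Ring →ₐ[A] V := P.lift zv ⟨hzv, hu⟩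
  haveI : Algebra.FormallyUnramified A φ₀.range :=
    Algebra.FormallyUnramified.of_surjective φ₀.rangeRestrict φ₀.rangeRestrict_surjective
  haveI : Algebra.FiniteType A φ₀.range := Algebra.FiniteType.of_surjective φ₀.rangeRestrict φ₀.rangeRestrict_surjective
  let Q : Ideal φ₀.range := (maximalIdeal V).comap φ₀.range.val.toRingHom
  haveI : Q.IsPrime := Ideal.IsPrime.comap _
  let D := Localization.AtPrime Q
  have huD : ∀ s : Q.primeCompl, IsUnit (φ₀.range.val.toRingHom s) := fun s => by
    by_contra hu'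
    exact s.2 hu'
  let ψ₀ : D →+* V := IsLocalization.lift (M := Q.primeCompl) huD
  have hψ₀ : ∀ r, ψ₀ (algebraMap φ₀.range D r) = (r : V) := fun r => IsLocalization.lift_eq huD r
  let ψ : D →ₐ[A] V :=
    { ψ₀ with
      commutes' := fun r => by
        show ψ₀ (algebraMap A D r) = _
        rw [IsScalarTower.algebraMap_apply A φ₀.range D, hψ₀]
        rfl }
  haveI : Algebra.FormallyUnramified A D := Algebra.FormallyUnramified.comp A φ₀.range D
  haveI : Algebra.EssFiniteType A D := Algebra.EssFiniteType.comp A φ₀.range D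
  haveI : IsNoetherianRing φ₀.range := Algebra.FiniteType.isNoetherianRing A φ₀.range
  haveI : IsLocalHom (algebraMap A D) := ⟨fun r hr => by
    exact isUnit_of_map_unit (algebraMap A V) r (ψ.commutes r ▸ hr.map ψ)⟩
  obtain ⟨π, hπ⟩ := IsDiscreteValuationRing.exists_irreducible A
  have hD : maximalIdeal D = Ideal.span {algebraMap A D π} := by
    rw [← Algebra.FormallyUnramified.map_maximalIdeal (R := A) (S := D), hπ.maximalIdeal_eq, Ideal.map_span,
      Set.image_singleton]
  haveI : IsDomain D := IsLocalization.isDomain_of_le_nonZeroDivisors D (Q.primeCompl_le_nonZeroDivisors)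
  haveI : IsNoetherianRing D := IsLocalization.isNoetherianRing Q.primeCompl D inferInstance
  have hnf : ¬ IsField D := fun hF => by
    have h0 : algebraMap A D π = 0 := Ideal.span_singleton_eq_bot.1 (hD ▸ IsLocalRing.isField_iff_maximalIdeal_eq.1 hF)
    have h1 := congrArg (fun d => ((ψ d : V) : L)) h0
    simp only [AlgHom.commutes, map_zero, ZeroMemClass.coe_zero] at h1
    exact hπ.ne_zero (injective_algebraMap' (K := K) (h1.trans (map_zero (algebraMap A L)).symm))
  haveI : IsDiscreteValuationRing D :=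
    ((IsDiscreteValuationRing.TFAE D hnf).out 0 4
      (a := IsDiscreteValuationRing D) (b := (maximalIdeal D).IsPrincipal)).2 ⟨_, hD⟩
  have hϖ := (IsDiscreteValuationRing.irreducible_iff_uniformizer (algebraMap A D π)).2 hD
  have hsurj : Function.Surjective ψ := by
    intro v
    have hintA : IsIntegral A z := ⟨f, hf, by simpa [aeval_def] using hz⟩
    have hint : IsIntegral K z := hintA.tower_top
    have htop : Algebra.adjoin K {z} = ⊤ := by
      rw [← IntermediateField.adjoin_simple_toSubalgebra_of_isAlgebraic hint.isAlgebraic, hgen,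
        IntermediateField.top_toSubalgebra]
    obtain ⟨q, hq⟩ := (Algebra.adjoin_singleton_eq_range_aeval K z ▸ htop ▸ Algebra.mem_top :
      (v : L) ∈ (aeval z : K[X] →ₐ[K] L).range)
    let q' := IsLocalization.integerNormalization (nonZeroDivisors A) q
    obtain ⟨⟨d, hd⟩, hdq⟩ := IsLocalization.integerNormalization_map_to_map (nonZeroDivisors A) q
    let r : φ₀.range := φ₀.rangeRestrict (aeval P.X q')
    have hr : ((r : V) : L) = algebraMap A L d * v := by
      show ((φ₀ (aeval P.X q') : V) : L) = _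
      rw [← aeval_algHom_apply, show φ₀ P.X = zv from P.lift_X zv _]
      show algebraMap V L (aeval zv q') = _
      rw [← aeval_algebraMap_apply, ← aeval_map_algebraMap K (algebraMap V L zv) q', hdq]
      show aeval z ((d : A) • q) = _
      rw [AlgHom.map_smul_of_tower, show aeval z q = (v : L) from hq, Algebra.smul_def]
    rcases eq_or_ne v 0 with rfl | hv0
    · exact ⟨0, map_zero _⟩
    have hgi : Function.Injective (algebraMap A L) := injective_algebraMap' (K := K)
    have hr0 : algebraMap φ₀.range D r ≠ 0 := fun h => by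
      have h1 : ((r : V) : L) = 0 := by rw [← hψ₀, h, map_zero]; rfl
      rw [hr] at h1
      exact mul_ne_zero ((map_ne_zero_iff _ hgi).2 (nonZeroDivisors.ne_zero hd)) (by simpa using hv0) h1
    obtain ⟨i, u, hiu⟩ := IsDiscreteValuationRing.eq_unit_mul_pow_irreducible hr0 hϖ
    obtain ⟨j, w, hjw⟩ := IsDiscreteValuationRing.eq_unit_mul_pow_irreducible (nonZeroDivisors.ne_zero hd) hπ
    have heq : algebraMap A V d * v = ψ (algebraMap φ₀.range D r) := Subtype.ext (by
      show algebraMap A L d * (v : L) = ((ψ₀ (algebraMap φ₀.range D r) : V) : L)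
      rw [hψ₀, hr])
    rw [hiu, map_mul, map_pow, AlgHom.commutes, hjw, map_mul, map_pow] at heq
    have hπV0 : algebraMap A V π ≠ 0 := fun h => hπ.ne_zero (hgi (by
      rw [map_zero, IsScalarTower.algebraMap_apply A V L, h, map_zero]))
    have hji : j ≤ i := by
      by_contra! h
      have hπm : algebraMap A V π ∈ maximalIdeal V := map_nonunit (algebraMap A V) π hπ.not_isUnit
      have h2 : algebraMap A V ↑w * algebraMap A V π ^ (j - i) * v = ψ ↑u := mul_left_cancel₀ (pow_ne_zero i hπV0) (by
        calc algebraMap A V π ^ i * (algebraMap A V ↑w * algebraMap A V π ^ (j - i) * v)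
            = algebraMap A V ↑w * algebraMap A V π ^ (i + (j - i)) * v := by rw [pow_add]; ring
          _ = _ := by rw [Nat.add_sub_cancel' h.le, heq, mul_comm])
      exact (mem_maximalIdeal _).1 (h2 ▸ Ideal.mul_mem_right _ _ (Ideal.mul_mem_left _ _
        (Ideal.pow_mem_of_mem _ hπm _ (by omega)))) (u.isUnit.map ψ)
    refine ⟨u * algebraMap A D π ^ (i - j) * algebraMap A D ↑w⁻¹, ?_⟩
    refine mul_left_cancel₀ (mul_ne_zero ((w.isUnit.map (algebraMap A V)).ne_zero) (pow_ne_zero j hπV0)) ?_
    rw [heq, map_mul, map_mul, map_pow, AlgHom.commutes, AlgHom.commutes]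
    have h3 : algebraMap A V ↑w * algebraMap A V ↑w⁻¹ = 1 := by rw [← map_mul, Units.mul_inv, map_one]
    calc algebraMap A V ↑w * algebraMap A V π ^ j * (ψ ↑u * algebraMap A V π ^ (i - j) * algebraMap A V ↑w⁻¹)
        = ψ ↑u * algebraMap A V π ^ (j + (i - j)) * (algebraMap A V ↑w * algebraMap A V ↑w⁻¹) := by
          rw [pow_add]; ring
      _ = _ := by rw [Nat.add_sub_cancel' hji, h3, mul_one]
  haveI : Algebra.FormallyUnramified A V :=
    Algebra.FormallyUnramified.of_surjective (R := A) (A := D) (B := ↥V) ψ hsurj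
  haveI : Algebra.EssFiniteType A V :=
    Algebra.EssFiniteType.of_surjective (R := A) (S := D) (T := ↥V) ψ hsurj
  exact ⟨Algebra.FormallyUnramified.map_maximalIdeal, inferInstance⟩

/-- Above a pole, the power `z ^ p` dominates the other terms. -/
theorem pole_valuation {p : ℕ} (hp : 1 < p) (f : A[X]) (hf : f.Monic) (hdegf : f.natDegree = p) (ξ : K) (z : L)
    (hz : aeval z f = algebraMap K L ξ) {π : A} (hπ : Irreducible π) {n : ℕ} (hn : 0 < n) (a : Aˣ)
    (hξ : ξ * algebraMap A K π ^ n = algebraMap A K a)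
    {V : ValuationSubring L} (hV : EtRam.Dominates A (algebraMap A L) V) :
    V.valuation z ^ p * V.valuation (algebraMap A L π) ^ n = 1 ∧
      V.valuation (z ^ p * algebraMap A L π ^ n - algebraMap A L a) < 1 := by
  have hprod : V.valuation (algebraMap K L ξ) * V.valuation (algebraMap A L π) ^ n = 1 := by
    rw [← map_pow, ← map_mul, IsScalarTower.algebraMap_apply A K L π, ← map_pow, ← map_mul, hξ,
      ← IsScalarTower.algebraMap_apply, val_unit hV]
  have hπlt : V.valuation (algebraMap A L π) ^ n < 1 := pow_lt_one₀ zero_le' (hV.2 π hπ.not_isUnit) hn.ne'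
  have hξgt : 1 < V.valuation (algebraMap K L ξ) := by
    by_contra! h
    exact absurd hprod (lt_of_le_of_lt (mul_le_of_le_one_left' h) hπlt).ne
  have hlow : aeval z f = z ^ p + ∑ i ∈ Finset.range p, algebraMap A L (f.coeff i) * z ^ i := by
    conv_lhs => rw [hf.as_sum, hdegf]
    simp [map_sum]
  have hzgt : 1 < V.valuation z := by
    by_contra! h
    refine not_le.2 hξgt ?_
    rw [← hz, hlow]
    refine (V.valuation_le_one_iff _).2 (add_mem ?_ (sum_mem fun i _ => mul_mem (hV.1 _) (pow_mem ?_ _)))
    · exact pow_mem ((V.valuation_le_one_iff z).1 h) _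
    · exact (V.valuation_le_one_iff z).1 h
  have hsum : V.valuation (∑ i ∈ Finset.range p, algebraMap A L (f.coeff i) * z ^ i) < V.valuation (z ^ p) := by
    refine V.valuation.map_sum_lt ?_ fun i hi => ?_
    · rw [map_pow]; exact pow_ne_zero _ (zero_lt_one.trans hzgt).ne'
    · rw [map_mul, map_pow, map_pow]
      exact lt_of_le_of_lt (mul_le_of_le_one_left' (val_le_one hV _)) (pow_lt_pow_right₀ hzgt (Finset.mem_range.1 hi))
  have hzξ : V.valuation z ^ p = V.valuation (algebraMap K L ξ) := by
    rw [← hz, hlow, ← map_pow, Valuation.map_add_eq_of_lt_left _ hsum]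
  refine ⟨by rw [hzξ]; exact hprod, ?_⟩
  have : z ^ p * algebraMap A L π ^ n - algebraMap A L a =
      -((∑ i ∈ Finset.range p, algebraMap A L (f.coeff i) * z ^ i) * algebraMap A L π ^ n) := by
    rw [IsScalarTower.algebraMap_apply A K L (a : A), ← hξ, map_mul, map_pow,
      ← IsScalarTower.algebraMap_apply A K L π, ← hz, hlow]
    ring
  rw [this, Valuation.map_neg, map_mul, map_pow]
  refine lt_of_lt_of_eq (mul_lt_mul_of_pos_right hsum ?_) (by rw [map_pow, hzξ]; exact hprod)
  exact pow_pos (zero_lt_iff.2 fun h => by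
    rw [map_eq_zero, map_eq_zero_iff _ (injective_algebraMap' (K := K))] at h
    exact hπ.ne_zero h) _

end Groth.Agent.ASKumLib
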