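import Groth.Agent.ASKumLib.Basic

/-!
# Degree and Galois property of extensions of prime degree; the pole cases
-/

set_option autoImplicit false
set_option backward.isDefEq.respectTransparency false
set_option linter.style.haveILetI false
set_option linter.unusedSectionVars false
set_option maxHeartbeats 1000000
set_option synthInstance.maxHeartbeats 100000

universe u

open Polynomial IsLocalRing

noncomputable section

namespace Groth.Agent.ASKumLib

variable {K L : Type u} [Field K] [Field L] [Algebra K L]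

theorem finiteDimensional_of_gen {z : L} (f : K[X]) (hf : f.Monic) (hz : aeval z f = 0)
    (hgen : IntermediateField.adjoin K {z} = ⊤) :
    FiniteDimensional K L ∧ Module.finrank K L ≤ f.natDegree ∧ Algebra.adjoin K {z} = ⊤ := by
  have hint : IsIntegral K z := ⟨f, hf, by simpa [aeval_def] using hz⟩
  haveI := IntermediateField.adjoin.finiteDimensional hint
  have e : IntermediateField.adjoin K {z} ≃ₐ[K] L := (IntermediateField.equivOfEq hgen).trans IntermediateField.topEquiv
  refine ⟨e.toLinearEquiv.finiteDimensional, ?_, ?_⟩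
  · rw [← e.toLinearEquiv.finrank_eq, IntermediateField.adjoin.finrank hint]
    exact natDegree_le_of_dvd (minpoly.dvd K z hz) hf.ne_zero
  · rw [← IntermediateField.adjoin_simple_toSubalgebra_of_isAlgebraic hint.isAlgebraic, hgen,
      IntermediateField.top_toSubalgebra]

/-- Distinct roots in the extension generated by one of them. -/
theorem isGalois_of_roots {p : ℕ} (hp : 0 < p) (f : K[X]) (hf : f.Monic) (hdeg : f.natDegree = p)
    (r : Fin p → L) (hinj : Function.Injective r) (hr : ∀ i, aeval (r i) f = 0)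
    (hgen : IntermediateField.adjoin K {r ⟨0, hp⟩} = ⊤) : IsGalois K L := by
  classical
  obtain ⟨hfd, -, htop⟩ := finiteDimensional_of_gen f hf (hr ⟨0, hp⟩) hgen
  haveI := hfd
  let g := f.map (algebraMap K L)
  have hg : g = ∏ i, (X - C (r i)) := by
    have hmon : (∏ i, (X - C (r i))).Monic := monic_prod_of_monic _ _ fun i _ => monic_X_sub_C _
    have hdvd : (∏ i, (X - C (r i))) ∣ g :=
      Finset.prod_dvd_of_coprime ((pairwise_coprime_X_sub_C hinj).set_pairwise _) fun i _ => by
        rw [dvd_iff_isRoot, IsRoot, eval_map, ← aeval_def, hr]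
    exact (eq_of_monic_of_dvd_of_natDegree_le hmon (hf.map _) hdvd (by
      rw [natDegree_prod_of_monic _ _ fun i _ => monic_X_sub_C _]
      simp [g, hdeg]))
  have hsep : f.Separable := by
    rw [← separable_map (algebraMap K L)]
    show g.Separable
    rw [hg, separable_prod_X_sub_C_iff]
    exact hinj
  haveI : f.IsSplittingField K L := by
    refine ⟨?_, ?_⟩
    · show g.Splits
      rw [hg]
      exact Splits.prod fun i _ => Splits.X_sub_C _
    · refine eq_top_iff.2 (htop ▸ Algebra.adjoin_mono ?_)
      rintro _ rfl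
      exact (mem_rootSet_of_ne hf.ne_zero).2 (hr _)
  exact IsGalois.of_separable_splitting_field hsep

/-- Degree `1` or `p` when all automorphisms have order dividing `p` on the generator. -/
theorem finrank_eq_one_or_prime [FiniteDimensional K L] [IsGalois K L] {p : ℕ} (hp : p.Prime)
    (hdeg : Module.finrank K L ≤ p) {z : L} (hgen : IntermediateField.adjoin K {z} = ⊤)
    (hσ : ∀ σ : L ≃ₐ[K] L, (σ ^ p) z = z) : Module.finrank K L = 1 ∨ Module.finrank K L = p := by
  have hpg : IsPGroup p (L ≃ₐ[K] L) := fun σ => ⟨1, by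
    rw [pow_one]
    have h : IntermediateField.adjoin K {z} ≤ IntermediateField.fixedField (Subgroup.zpowers (σ ^ p)) := by
      rw [IntermediateField.adjoin_le_iff, Set.singleton_subset_iff]
      rintro ⟨τ, n, rfl⟩
      show ((σ ^ p) ^ n) • z = z
      exact MulAction.mem_stabilizer_iff.1 ((MulAction.stabilizer (L ≃ₐ[K] L) z).zpow_mem
        (MulAction.mem_stabilizer_iff.2 (hσ σ)) n)
    rw [hgen] at h
    exact AlgEquiv.ext fun x => h IntermediateField.mem_top ⟨σ ^ p, Subgroup.mem_zpowers _⟩⟩
  haveI : Fact p.Prime := ⟨hp⟩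
  obtain ⟨k, hk⟩ := IsPGroup.iff_card.1 hpg
  rw [IsGalois.card_aut_eq_finrank] at hk
  rcases k with _ | _ | k
  · exact Or.inl (by simpa using hk)
  · exact Or.inr (by simpa using hk)
  · have h2 : p ^ 1 < p ^ (k + 1 + 1) := Nat.pow_lt_pow_right hp.one_lt (by omega)
    rw [pow_one, ← hk] at h2
    omega

end Groth.Agent.ASKumLib

namespace Groth.Agent.ASKumLib

variable {A K L : Type u} [CommRing A] [IsDomain A] [IsDiscreteValuationRing A] [Field K] [Algebra A K]
  [IsFractionRing A K] [Field L] [Algebra K L] [Algebra A L] [IsScalarTower A K L]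

include K in
theorem zpow_valuation {V : ValuationSubring L} {π : A} {b : V.ValueGroup} {i j t : ℤ}
    (hb : b = V.valuation (algebraMap A L π) ^ j) (p : ℕ) (hij : i * j + (p : ℤ) * t = 1)
    (hπ0 : V.valuation (algebraMap A L π) ≠ 0) :
    b ^ i * (V.valuation (algebraMap A L π) ^ t) ^ p = V.valuation (algebraMap A L π) := by
  rw [hb, ← zpow_mul, ← zpow_natCast, ← zpow_mul, ← zpow_add₀ hπ0,
    show j * i + t * (p : ℤ) = 1 by linarith [mul_comm i j, mul_comm t (p : ℤ)], zpow_one]

include K in
/-- The `p`-th power of an element has the valuation of a power of the uniformizer prime to `p`. -/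
theorem totallyRamified_of_pow [FiniteDimensional K L] {p : ℕ} (hp : p.Prime) (hdeg : Module.finrank K L ≤ p)
    {π : A} (hπ : Irreducible π) (x : L) (j : ℤ) (hj : ¬ (p : ℤ) ∣ j)
    (hx : ∀ V : ValuationSubring L, EtRam.Dominates A (algebraMap A L) V →
      V.valuation x ^ p = V.valuation (algebraMap A L π) ^ j) :
    EtRam.IsTotallyRamified A (algebraMap A L) ∧ Module.finrank K L = p := by
  obtain ⟨i, t, hit⟩ : ∃ i t : ℤ, i * j + (p : ℤ) * t = 1 := by
    have hcop : IsCoprime (p : ℤ) j := (Prime.coprime_iff_not_dvd (Nat.prime_iff_prime_int.1 hp)).2 hj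
    obtain ⟨a, b, hab⟩ := hcop
    exact ⟨b, a, by linarith⟩
  refine totallyRamified_of_root (K := K) hp.pos hdeg hπ (x ^ i * algebraMap A L π ^ t) fun V hV => ?_
  rw [map_mul, map_zpow₀, map_zpow₀, mul_pow]
  have hπ0 : V.valuation (algebraMap A L π) ≠ 0 := fun h => hπ.ne_zero (injective_algebraMap' (K := K)
    (((map_eq_zero _).1 h).trans (map_zero (algebraMap A L)).symm))
  rw [show (V.valuation x ^ i) ^ p = (V.valuation x ^ p) ^ i by
    rw [← zpow_natCast, ← zpow_mul, mul_comm, zpow_mul, zpow_natCast]]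
  exact zpow_valuation (K := K) (hx V hV) p hit hπ0

include K in
/-- Case (B): a pole of order prime to `p`. -/
theorem pole_case3 [FiniteDimensional K L] {p : ℕ} (hp : p.Prime) (hdeg : Module.finrank K L ≤ p)
    (f : A[X]) (hf : f.Monic) (hdegf : f.natDegree = p) (ξ : K) (z : L) (hz : aeval z f = algebraMap K L ξ)
    {π : A} (hπ : Irreducible π) {n : ℕ} (hn : 0 < n) (hpn : ¬ p ∣ n) (a : Aˣ)
    (hξ : ξ * algebraMap A K π ^ n = algebraMap A K a) :
    EtRam.IsTotallyRamified A (algebraMap A L) ∧ Module.finrank K L = p := by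
  refine totallyRamified_of_pow (K := K) hp hdeg hπ z (-(n : ℤ)) ?_ fun V hV => ?_
  · rw [dvd_neg, Int.natCast_dvd_natCast]; exact hpn
  · have h := (pole_valuation hp.one_lt f hf hdegf ξ z hz hπ hn a hξ hV).1
    rw [zpow_neg, zpow_natCast]
    exact eq_inv_of_mul_eq_one_left h

include K in
/-- Case (C): a pole of order divisible by `p` with non-`p`-th power leading residue. -/
theorem pole_case4 [FiniteDimensional K L] {p : ℕ} (hp : p.Prime) (hdeg : Module.finrank K L ≤ p)
    (hchar : CharP (ResidueField A) p)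
    (f : A[X]) (hf : f.Monic) (hdegf : f.natDegree = p) (ξ : K) (z : L) (hz : aeval z f = algebraMap K L ξ)
    {π : A} (hπ : Irreducible π) {n : ℕ} (hn : 0 < n) (hpn : p ∣ n) (a : A)
    (ha : ∀ r : A, residue A a ≠ residue A r ^ p) (hξ : ξ * algebraMap A K π ^ n = algebraMap A K a) :
    Case4 p A (algebraMap A L) ∧ Module.finrank K L = p := by
  obtain ⟨m, rfl⟩ := hpn
  have hu : IsUnit a := by
    by_contra h
    exact ha 0 (by rw [(residue_eq_zero_iff a).2 h, map_zero, zero_pow hp.ne_zero])
  refine case4_of_root (K := K) hp hdeg hπ hchar a ha (z * algebraMap A L π ^ m) fun V hV => ?_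
  have h := (pole_valuation hp.one_lt f hf hdegf ξ z hz hπ hn hu.unit hξ hV).2
  rwa [mul_pow, ← pow_mul, mul_comm m p]

include K in
/-- Case (A). -/
theorem case12 [FiniteDimensional K L] {p : ℕ} (hdich : Module.finrank K L = 1 ∨ Module.finrank K L = p)
    (f : A[X]) (hf : f.Monic) (a : A) (hdeg : f.natDegree ≠ 0) (z : L) (hz : aeval z f = algebraMap A L a)
    (c : Aˣ) (hder : ∀ n, (derivative f - C (c : A)).coeff n ∈ maximalIdeal A)
    (hgen : IntermediateField.adjoin K {z} = ⊤) :
    Module.finrank K L = 1 ∨ EtRam.IsUnramifiedExt A (algebraMap A L) ∧ Module.finrank K L = p := by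
  rcases hdich with h | h
  · exact Or.inl h
  refine Or.inr ⟨unramified_of_root (K := K) (f - C a) (hf.sub_of_left ?_) z (by rw [map_sub, hz, aeval_C, sub_self]) c
    (by rwa [derivative_sub, derivative_C, sub_zero]) hgen, h⟩
  rw [degree_eq_natDegree hf.ne_zero]
  exact lt_of_le_of_lt degree_C_le (by exact_mod_cast Nat.pos_of_ne_zero hdeg)

end Groth.Agent.ASKumLib
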