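import Groth.Agent.ASKumLib.Galois

/-!
# Kummer extensions of degree `p` of a discretely valued field of mixed characteristic
-/

set_option autoImplicit false
set_option backward.isDefEq.respectTransparency false
set_option linter.style.haveILetI false
set_option linter.unusedSectionVars false
set_option maxHeartbeats 2000000

universe u

open Polynomial IsLocalRing

noncomputable section

namespace Groth.Agent.ASKumLib

section Pol

variable {A : Type u} [CommRing A] {p : ℕ} {w : A} {P : A[X]}

theorem kummer_coeff (hP : C (w ^ p) * P = (1 + C w * X) ^ p - 1) (n : ℕ) (hn : n ≠ 0) :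
    w ^ p * P.coeff n = (p.choose n : A) * w ^ n := by
  have h := congrArg (fun q : A[X] => q.coeff n) hP
  simp only [coeff_C_mul, coeff_sub, coeff_one, if_neg hn, sub_zero] at h
  have h2 : (1 + C w * X) ^ p = ((1 + X) ^ p : A[X]).comp (C w * X) := by simp
  rw [h2, comp_C_mul_X_coeff, coeff_one_add_X_pow] at h
  exact h

theorem kummer_aeval (hP : C (w ^ p) * P = (1 + C w * X) ^ p - 1) {R : Type u} [CommRing R] [Algebra A R] (x : R) :
    algebraMap A R w ^ p * aeval x P = (1 + algebraMap A R w * x) ^ p - 1 := by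
  simpa using congrArg (aeval x) hP

variable [IsDomain A]

theorem kummer_monic (hp : p ≠ 0) (hw : w ≠ 0) (hP : C (w ^ p) * P = (1 + C w * X) ^ p - 1) :
    P.Monic ∧ P.natDegree = p := by
  have h1 : P.coeff p = 1 := mul_left_cancel₀ (pow_ne_zero p hw) (by rw [kummer_coeff hP p hp]; simp)
  have h2 : P.natDegree ≤ p := natDegree_le_iff_coeff_eq_zero.2 fun m hm => mul_left_cancel₀ (pow_ne_zero p hw) (by
    rw [kummer_coeff hP m (by omega), Nat.choose_eq_zero_of_lt hm, Nat.cast_zero, zero_mul, mul_zero])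
  refine ⟨monic_of_natDegree_le_of_coeff_eq_one p h2 h1, le_antisymm h2 ?_⟩
  exact le_natDegree_of_ne_zero (by rw [h1]; exact one_ne_zero)

theorem kummer_derivative [IsLocalRing A] (hw : w ≠ 0) (hP : C (w ^ p) * P = (1 + C w * X) ^ p - 1)
    (hp : 0 < p) (u : Aˣ) (hpu : (p : A) = u * w ^ (p - 1)) (hwm : w ∈ maximalIdeal A) (n : ℕ) :
    (derivative P - C (u : A)).coeff n ∈ maximalIdeal A := by
  have h : (derivative P).coeff n = (u : A) * ((p - 1).choose n : A) * w ^ n := by
    refine mul_left_cancel₀ (pow_ne_zero p hw) ?_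
    have h3 : ((p.choose (n + 1) : ℕ) : A) * ((n : A) + 1) = (p : A) * ((p - 1).choose n : A) := by
      have := Nat.add_one_mul_choose_eq (p - 1) n
      rw [Nat.sub_add_cancel hp] at this
      exact_mod_cast congrArg (Nat.cast (R := A)) this.symm
    rw [coeff_derivative, ← mul_assoc, kummer_coeff hP _ n.succ_ne_zero]
    calc (p.choose (n + 1) : A) * w ^ (n + 1) * ((n : A) + 1)
        = (p : A) * ((p - 1).choose n : A) * (w * w ^ n) := by rw [← h3, pow_succ]; ring
      _ = w ^ (p - 1 + 1) * (↑u * ((p - 1).choose n : A) * w ^ n) := by rw [hpu, pow_succ]; ring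
      _ = _ := by rw [Nat.sub_add_cancel hp]
  rw [coeff_sub, h, coeff_C]
  rcases n with _ | n
  · simp
  · rw [if_neg n.succ_ne_zero, sub_zero]
    exact Ideal.mul_mem_left _ _ (Ideal.pow_mem_of_mem _ hwm _ n.succ_pos)

/-- `p` is the `(p-1)`st power of `1 - ζ` up to a unit. -/
theorem prime_eq_unit_mul_pow {ζ : A} (hp : p.Prime) (hζ : IsPrimitiveRoot ζ p) :
    ∃ u : Aˣ, (p : A) = u * (1 - ζ) ^ (p - 1) := by
  obtain ⟨k, rfl⟩ : ∃ k, p = k + 1 := ⟨p - 1, (Nat.sub_add_cancel hp.pos).symm⟩
  have h := hζ.prod_one_sub_pow_eq_order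
  have hu : IsUnit (∏ i ∈ Finset.range k, ∑ j ∈ Finset.range (i + 1), ζ ^ j) := by
    refine IsUnit.prod_iff.2 fun i hi => hζ.geom_sum_isUnit hp.two_le ?_
    exact Nat.Coprime.symm ((hp.coprime_iff_not_dvd).2 fun hd => by
      have h1 := Nat.le_of_dvd i.succ_pos hd
      have h2 := Finset.mem_range.1 hi
      omega)
  refine ⟨hu.unit, ?_⟩
  rw [Nat.cast_succ, ← h, IsUnit.unit_spec, Nat.add_sub_cancel]
  calc ∏ i ∈ Finset.range k, (1 - ζ ^ (i + 1))
      = ∏ i ∈ Finset.range k, ((∑ j ∈ Finset.range (i + 1), ζ ^ j) * (1 - ζ)) := by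
        refine Finset.prod_congr rfl fun i _ => ?_
        rw [geom_sum_mul_neg]
    _ = _ := by rw [Finset.prod_mul_distrib, Finset.prod_const, Finset.card_range]

end Pol

variable {A K L : Type u} [CommRing A] [IsDomain A] [IsDiscreteValuationRing A] [Field K] [Algebra A K]
  [IsFractionRing A K] [Field L] [Algebra K L] [Algebra A L] [IsScalarTower A K L]

include K in
theorem valuation_eq_zpow {π : A} (v : Aˣ) (j : ℤ) {V : ValuationSubring L}
    (hV : EtRam.Dominates A (algebraMap A L) V) :
    V.valuation (algebraMap K L (algebraMap A K v * algebraMap A K π ^ j)) = V.valuation (algebraMap A L π) ^ j := by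
  rw [map_mul, map_zpow₀, map_mul, map_zpow₀, ← IsScalarTower.algebraMap_apply, ← IsScalarTower.algebraMap_apply,
    val_unit hV, one_mul]

/-- A monic polynomial at a pole: the top term is dominant. -/
theorem exists_pole_eval {p : ℕ} (P : A[X]) (hP : P.Monic) (hdeg : P.natDegree = p) (π c₀ : A) {m : ℕ} (hm : 0 < m) :
    ∃ Q q : A, Q = c₀ ^ p + π * q ∧ algebraMap A K Q =
      aeval (algebraMap A K c₀ / algebraMap A K π ^ m) P * algebraMap A K π ^ (p * m) ∨ algebraMap A K π = 0 := by
  by_cases hπ : algebraMap A K π = 0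
  · exact ⟨0, 0, Or.inr hπ⟩
  refine ⟨_, ∑ i ∈ Finset.range p, P.coeff i * c₀ ^ i * π ^ (m * (p - i) - 1), Or.inl ⟨rfl, ?_⟩⟩
  have hlow : aeval (algebraMap A K c₀ / algebraMap A K π ^ m) P =
      (algebraMap A K c₀ / algebraMap A K π ^ m) ^ p + ∑ i ∈ Finset.range p,
        algebraMap A K (P.coeff i) * (algebraMap A K c₀ / algebraMap A K π ^ m) ^ i := by
    conv_lhs => rw [hP.as_sum, hdeg]
    simp [map_sum]
  rw [hlow, map_add, map_mul, map_sum, map_pow, add_mul, Finset.mul_sum, Finset.sum_mul]
  refine congrArg₂ (· + ·) ?_ (Finset.sum_congr rfl fun i hi => ?_)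
  · rw [mul_comm p m, pow_mul, div_pow, div_mul_cancel₀ _ (pow_ne_zero _ (pow_ne_zero _ hπ))]
  · have hi' := Finset.mem_range.1 hi
    have h2 : m * i + (m * (p - i) - 1 + 1) = p * m := by
      have : 1 ≤ m * (p - i) := Nat.mul_pos hm (by omega)
      rw [Nat.sub_add_cancel this, ← mul_add, Nat.add_sub_cancel' hi'.le, mul_comm]
    rw [map_mul, map_mul, map_pow, map_pow, ← h2, div_pow, ← pow_mul, pow_add, pow_succ]
    field_simp

theorem kummer (p : ℕ) (hp : p.Prime) (A K L : Type u) [CommRing A] [IsDomain A]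
    [IsDiscreteValuationRing A] [Field K] [Algebra A K] [IsFractionRing A K] [Field L] [Algebra K L] [Algebra A L]
    [IsScalarTower A K L] [CharZero K] [CharP (IsLocalRing.ResidueField A) p] (ζ : A)
    (hζ : aeval ζ (cyclotomic p ℤ) = 0) (P : A[X]) (hP : C ((1 - ζ) ^ p) * P = (1 + C (1 - ζ) * X) ^ p - 1) (π : A)
    (hπ : IsLocalRing.maximalIdeal A = Ideal.span {π})
    (ξ : K) (z : L) (hz : aeval z P = algebraMap K L ξ) (hgen : IntermediateField.adjoin K {z} = ⊤) :
    IsGalois K L ∧
      (Module.finrank K L = 1 ∨ (EtRam.IsUnramifiedExt A (algebraMap A L) ∧ Module.finrank K L = p) ∨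
        (EtRam.IsTotallyRamified A (algebraMap A L) ∧ Module.finrank K L = p) ∨ Case4 p A (algebraMap A L)) ∧
      ((∃ a : A, algebraMap A K a = ξ) →
        Module.finrank K L = 1 ∨ (EtRam.IsUnramifiedExt A (algebraMap A L) ∧ Module.finrank K L = p)) ∧
      (∀ (n : ℕ) (a : Aˣ), 0 < n → ¬ p ∣ n → ξ * algebraMap A K π ^ n = algebraMap A K a →
        EtRam.IsTotallyRamified A (algebraMap A L) ∧ Module.finrank K L = p) ∧
      (∀ (n : ℕ) (a : A), 0 < n → p ∣ n → (∀ r : A, IsLocalRing.residue A a ≠ IsLocalRing.residue A r ^ p) →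
          ξ * algebraMap A K π ^ n = algebraMap A K a → Case4 p A (algebraMap A L)) := by
  classical
  haveI : Fact p.Prime := ⟨hp⟩
  haveI : NeZero p := ⟨hp.ne_zero⟩
  have hπi : Irreducible π := (IsDiscreteValuationRing.irreducible_iff_uniformizer π).2 hπ
  have hinjK : Function.Injective (algebraMap A K) := IsFractionRing.injective A K
  haveI : CharZero A := charZero_of_inj_zero fun n h => by simpa using congrArg (algebraMap A K) h
  have hprim : IsPrimitiveRoot ζ p := (isRoot_cyclotomic_iff_charZero hp.pos).1 (by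
    rw [IsRoot, ← map_cyclotomic p (algebraMap ℤ A), eval_map, ← aeval_def, hζ])
  have hck : CharP (ResidueField A) p := inferInstance
  -- the element `w = 1 - ζ`
  set w : A := 1 - ζ with hw
  have hwm : w ∈ maximalIdeal A := by
    rw [← residue_eq_zero_iff, hw, map_sub, map_one, sub_eq_zero, eq_comm, ← sub_eq_zero]
    refine eq_zero_of_pow_eq_zero (n := p) ?_
    rw [sub_pow_char, ← map_pow, hprim.pow_eq_one, map_one, one_pow, sub_self]
  have hw0 : w ≠ 0 := sub_ne_zero.2 (hprim.ne_one hp.one_lt).symm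
  obtain ⟨u, hpu⟩ := prime_eq_unit_mul_pow hp hprim
  obtain ⟨hf, hdegf⟩ := kummer_monic hp.ne_zero hw0 hP
  have hder := kummer_derivative hw0 hP hp.pos u hpu hwm
  obtain ⟨N, ε, hN⟩ := IsDiscreteValuationRing.eq_unit_mul_pow_irreducible (pow_ne_zero p hw0) hπi
  have hNK : algebraMap A K w ^ p = algebraMap A K ε * algebraMap A K π ^ N := by
    rw [← map_pow, hN, map_mul, map_pow]
  have hwK : algebraMap A K w ≠ 0 := (map_ne_zero_iff _ hinjK).2 hw0
  have hwL : algebraMap A L w ≠ 0 := (map_ne_zero_iff _ (injective_algebraMap' (K := K))).2 hw0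
  have hπ0 : algebraMap A K π ≠ 0 := (map_ne_zero_iff _ hinjK).2 hπi.ne_zero
  -- degree
  let f : K[X] := P.map (algebraMap A K) - C ξ
  have hfz : ∀ x : L, aeval x f = aeval x P - algebraMap K L ξ := fun x => by
    rw [map_sub, aeval_map_algebraMap, aeval_C]
  have hfmon : f.Monic := (hf.map _).sub_of_left (by
    rw [degree_map_eq_of_injective hinjK, degree_eq_natDegree hf.ne_zero, hdegf]
    exact lt_of_le_of_lt degree_C_le (by exact_mod_cast hp.pos))
  have hfdeg : f.natDegree = p := by
    rw [natDegree_sub_C, natDegree_map_eq_of_injective hinjK, hdegf]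
  obtain ⟨hfd, hle, -⟩ := finiteDimensional_of_gen f hfmon (by rw [hfz, hz, sub_self]) hgen
  haveI := hfd
  rw [hfdeg] at hle
  -- degree one
  have hone : ∀ (z' : L) (d : K), IntermediateField.adjoin K {z'} = ⊤ → z' = algebraMap K L d →
      Function.Bijective (algebraMap K L) := by
    intro z' d hg hd
    refine ⟨(algebraMap K L).injective, fun y => ?_⟩
    have hbot : IntermediateField.adjoin K {z'} = ⊥ :=
      IntermediateField.adjoin_simple_eq_bot_iff.2 (IntermediateField.mem_bot.2 ⟨d, hd.symm⟩)
    exact IntermediateField.mem_bot.1 (hbot ▸ hg ▸ IntermediateField.mem_top : y ∈ (⊥ : IntermediateField K L))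
  have hone' : Function.Bijective (algebraMap K L) → Module.finrank K L = 1 := fun hb => by
    rw [← (AlgEquiv.ofBijective (Algebra.ofId K L) hb).toLinearEquiv.finrank_eq, Module.finrank_self]
  have hzero : ∀ z' : L, IntermediateField.adjoin K {z'} = ⊤ → 1 + algebraMap A L w * z' = 0 →
      Function.Bijective (algebraMap K L) := by
    intro z' hg h
    refine hone z' (-(algebraMap A K w)⁻¹) hg ?_
    rw [map_neg, map_inv₀, ← IsScalarTower.algebraMap_apply]
    field_simp
    linear_combination h
  have hLA : algebraMap K L (algebraMap A K ζ) = algebraMap A L ζ := (IsScalarTower.algebraMap_apply A K L ζ).symm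
  have hprimL : IsPrimitiveRoot (algebraMap A L ζ) p := hprim.map_of_injective (injective_algebraMap' (K := K))
  -- the power of `1 + wz`
  have hpow : ∀ (z' : L) (ξ' : K), aeval z' P = algebraMap K L ξ' →
      (1 + algebraMap A L w * z') ^ p = algebraMap K L (1 + algebraMap A K w ^ p * ξ') := by
    intro z' ξ' h
    have h1 := kummer_aeval hP z'
    rw [h] at h1
    rw [map_add, map_one, map_mul, map_pow, ← IsScalarTower.algebraMap_apply]
    linear_combination -h1
  -- Galois
  have hgal : IsGalois K L := by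
    by_cases hx : 1 + algebraMap A L w * z = 0
    · exact IsGalois.of_algEquiv (AlgEquiv.ofBijective (Algebra.ofId K L) (hzero z hgen hx))
    let r : Fin p → L := fun i => (algebraMap A L ζ ^ (i : ℕ) * (1 + algebraMap A L w * z) - 1) / algebraMap A L w
    have hr0 : r ⟨0, hp.pos⟩ = z := by
      simp only [r, pow_zero, one_mul, add_sub_cancel_left]
      exact mul_div_cancel_left₀ z hwL
    have hwr : ∀ i, 1 + algebraMap A L w * r i = algebraMap A L ζ ^ (i : ℕ) * (1 + algebraMap A L w * z) := fun i => by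
      simp only [r]
      rw [mul_div_cancel₀ _ hwL]
      ring
    refine isGalois_of_roots hp.pos f hfmon hfdeg r ?_ (fun i => ?_) (by rw [hr0]; exact hgen)
    · intro i j h
      have h2 := congrArg (fun t => 1 + algebraMap A L w * t) h
      simp only [hwr] at h2
      exact Fin.ext (hprimL.pow_inj i.2 j.2 (mul_right_cancel₀ hx h2))
    · rw [hfz, sub_eq_zero]
      refine mul_left_cancel₀ (pow_ne_zero p hwL) ?_
      rw [kummer_aeval hP, hwr, mul_pow, ← pow_mul, mul_comm (i : ℕ) p, pow_mul, hprimL.pow_eq_one, one_pow, one_mul,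
        ← kummer_aeval hP, hz]
  haveI := hgal
  have hdich : Module.finrank K L = 1 ∨ Module.finrank K L = p := by
    by_cases hx : 1 + algebraMap A L w * z = 0
    · exact Or.inl (hone' (hzero z hgen hx))
    refine finrank_eq_one_or_prime hp hle hgen fun σ => ?_
    have hσw : ∀ a : A, σ (algebraMap A L a) = algebraMap A L a := fun a => by
      rw [IsScalarTower.algebraMap_apply A K L, AlgEquiv.commutes]
    have hσx : (σ (1 + algebraMap A L w * z) / (1 + algebraMap A L w * z)) ^ p = 1 := by
      rw [div_pow, ← map_pow, hpow z ξ hz, AlgEquiv.commutes, div_self]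
      rw [← hpow z ξ hz]
      exact pow_ne_zero _ hx
    obtain ⟨i, -, hi⟩ := hprimL.eq_pow_of_pow_eq_one hσx
    rw [eq_div_iff hx] at hi
    have key : ∀ n : ℕ, (σ ^ n) (1 + algebraMap A L w * z) =
        (algebraMap A L ζ ^ i) ^ n * (1 + algebraMap A L w * z) := by
      intro n
      induction n with
      | zero => simp
      | succ n ih =>
        rw [pow_succ', AlgEquiv.mul_apply, ih, map_mul, map_pow, map_pow, hσw, ← hi]
        ring
    have h := key p
    rw [← pow_mul, mul_comm i p, pow_mul, hprimL.pow_eq_one, one_pow, one_mul, map_add, map_one, map_mul,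
      IsScalarTower.algebraMap_apply A K L w, AlgEquiv.commutes, ← IsScalarTower.algebraMap_apply] at h
    exact mul_left_cancel₀ hwL (add_left_cancel h)
  have hA : ∀ (z : L), IntermediateField.adjoin K {z} = ⊤ → ∀ a : A, aeval z P = algebraMap A L a →
      Module.finrank K L = 1 ∨ EtRam.IsUnramifiedExt A (algebraMap A L) ∧ Module.finrank K L = p := fun z hg a ha =>
    case12 (K := K) hdich P hf a (by rw [hdegf]; exact hp.ne_zero) z ha u hder hg
  -- translation
  have htrans : ∀ (z : L) (ξ : K) (s : K) (ξ' : K), IntermediateField.adjoin K {z} = ⊤ →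
      aeval z P = algebraMap K L ξ → s ≠ 0 → algebraMap A K w ^ p * ξ' = s ^ p * (1 + algebraMap A K w ^ p * ξ) - 1 →
      ∃ z' : L, IntermediateField.adjoin K {z'} = ⊤ ∧ aeval z' P = algebraMap K L ξ' := by
    intro z ξ s ξ' hg hz hs hξ'
    let z' : L := (algebraMap K L s * (1 + algebraMap A L w * z) - 1) / algebraMap A L w
    have hz' : 1 + algebraMap A L w * z' = algebraMap K L s * (1 + algebraMap A L w * z) := by
      simp only [z']
      rw [mul_div_cancel₀ _ hwL]
      ring
    refine ⟨z', ?_, mul_left_cancel₀ (pow_ne_zero p hwL) ?_⟩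
    · refine eq_top_iff.2 (hg ▸ (IntermediateField.adjoin_le_iff.2 ?_))
      intro y hy
      rw [Set.mem_singleton_iff.1 hy]
      have hmem : ∀ c : K, algebraMap K L c ∈ IntermediateField.adjoin K {z'} :=
        (IntermediateField.adjoin K {z'}).algebraMap_mem
      have hwz : algebraMap A L w ∈ IntermediateField.adjoin K {z'} := by
        rw [IsScalarTower.algebraMap_apply A K L]; exact hmem _
      have heq : z = ((1 + algebraMap A L w * z') / algebraMap K L s - 1) / algebraMap A L w := by
        rw [hz', mul_div_cancel_left₀ _ ((_root_.map_ne_zero _).2 hs)]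
        field_simp
        ring
      rw [heq]
      exact div_mem (sub_mem (div_mem (add_mem (one_mem _)
        (mul_mem hwz (IntermediateField.mem_adjoin_simple_self K z'))) (hmem s)) (one_mem _)) hwz
    · rw [kummer_aeval hP, hz', mul_pow, hpow z ξ hz, IsScalarTower.algebraMap_apply A K L w,
        ← map_pow (algebraMap K L), ← map_pow (algebraMap K L), ← map_mul, ← map_mul, hξ', map_sub (algebraMap K L),
        map_one]
  have tri : ∀ (n : ℕ) (z : L) (ξ : K) (a : A), IntermediateField.adjoin K {z} = ⊤ → aeval z P = algebraMap K L ξ →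
      ξ * algebraMap A K π ^ n = algebraMap A K a →
      Module.finrank K L = 1 ∨ (EtRam.IsUnramifiedExt A (algebraMap A L) ∧ Module.finrank K L = p) ∨
        (EtRam.IsTotallyRamified A (algebraMap A L) ∧ Module.finrank K L = p) ∨ Case4 p A (algebraMap A L) := by
    intro n
    induction n using Nat.strong_induction_on with
    | _ n ih => ?_
    intro z ξ a hg hz hξ
    rcases Nat.eq_zero_or_pos n with rfl | hn
    · rw [pow_zero, mul_one] at hξ
      exact (hA z hg a (by rw [hz, hξ, ← IsScalarTower.algebraMap_apply])).imp_right Or.inl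
    by_cases hu : IsUnit a
    swap
    · obtain ⟨a', rfl⟩ : π ∣ a := Ideal.mem_span_singleton.1 (hπ ▸ (mem_maximalIdeal a).2 hu)
      refine ih (n - 1) (by omega) z ξ a' hg hz (mul_right_cancel₀ hπ0 ?_)
      rw [mul_assoc, ← pow_succ, Nat.sub_add_cancel hn, hξ, map_mul, mul_comm]
    rcases le_or_gt N n with hNn | hNn
    · -- a deep pole: analyse `b = (1 + w z) ^ p`
      obtain ⟨d, hd⟩ := Nat.exists_eq_add_of_le hNn
      set b : K := 1 + algebraMap A K w ^ p * ξ with hb
      have hxb : (1 + algebraMap A L w * z) ^ p = algebraMap K L b := hpow z ξ hz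
      have he : b * algebraMap A K π ^ d = algebraMap A K (π ^ d + ε * a) := by
        rw [hd, pow_add] at hξ
        rw [hb, map_add, map_pow, map_mul, ← hξ, hNK]
        ring
      rcases eq_or_ne (π ^ d + ε * a) 0 with he0 | he0
      · rw [he0, map_zero, mul_eq_zero, or_iff_left (pow_ne_zero _ hπ0)] at he
        rw [he, map_zero] at hxb
        exact Or.inl (hone' (hzero z hg (eq_zero_of_pow_eq_zero hxb)))
      obtain ⟨k, v, hv⟩ := IsDiscreteValuationRing.eq_unit_mul_pow_irreducible he0 hπi
      have hbj : b = algebraMap A K v * algebraMap A K π ^ ((k : ℤ) - d) := by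
        rw [hv, map_mul, map_pow] at he
        rw [zpow_sub₀ hπ0, zpow_natCast, zpow_natCast, ← mul_div_assoc, eq_div_iff (pow_ne_zero _ hπ0)]
        exact he
      by_cases hj : (p : ℤ) ∣ (k : ℤ) - d
      swap
      · refine Or.inr (Or.inr (Or.inl (totallyRamified_of_pow (K := K) hp hle hπi (1 + algebraMap A L w * z) _ hj
          fun V hV => ?_)))
        rw [← map_pow, hxb, hbj, valuation_eq_zpow (K := K) v _ hV]
      obtain ⟨t, ht⟩ := hj
      have hbs : ((algebraMap A K π) ^ (-t)) ^ p * b = algebraMap A K v := by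
        rw [← zpow_natCast, ← zpow_mul, hbj, mul_left_comm, ← zpow_add₀ hπ0, ht,
          show -t * (p : ℤ) + (p : ℤ) * t = 0 by ring, zpow_zero, mul_one]
      by_cases hres : ∀ r : A, residue A (v : A) ≠ residue A r ^ p
      · refine Or.inr (Or.inr (Or.inr (case4_of_root (K := K) hp hle hπi hck v hres
          (algebraMap K L ((algebraMap A K π) ^ (-t)) * (1 + algebraMap A L w * z)) fun V hV => ?_).1))
        rw [mul_pow, hxb, ← map_pow, ← map_mul, hbs, ← IsScalarTower.algebraMap_apply, sub_self, map_zero]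
        exact zero_lt_one
      push Not at hres
      obtain ⟨r, hr⟩ := hres
      have hru : IsUnit r := by
        by_contra h
        rw [(residue_eq_zero_iff r).2 h, zero_pow hp.ne_zero, residue_eq_zero_iff] at hr
        exact (mem_maximalIdeal _).1 hr v.isUnit
      obtain ⟨ru, rfl⟩ := hru
      obtain ⟨q, hq⟩ : π ∣ (v : A) * ↑(ru⁻¹) ^ p - 1 := by
        rw [← Ideal.mem_span_singleton, ← hπ, ← residue_eq_zero_iff, map_sub, map_mul, map_pow, hr, ← mul_pow,
          ← map_mul, Units.mul_inv, map_one, one_pow, sub_self]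
      have hNpos : 0 < N := by
        rcases Nat.eq_zero_or_pos N with h | h
        · rw [h, pow_zero, mul_one] at hN
          exact absurd (hN ▸ ε.isUnit) ((mem_maximalIdeal _).1 (Ideal.pow_mem_of_mem _ hwm _ hp.pos))
        · exact h
      let ξ' : K := algebraMap A K (π * q) / algebraMap A K w ^ p
      obtain ⟨z', hg', hz'⟩ := htrans z ξ ((algebraMap A K π) ^ (-t) * algebraMap A K ↑(ru⁻¹)) ξ' hg hz
        (mul_ne_zero (zpow_ne_zero _ hπ0) ((ru⁻¹).isUnit.map _).ne_zero) (by
          rw [mul_div_cancel₀ _ (pow_ne_zero _ hwK), ← hq, ← hb, mul_pow, mul_right_comm, hbs, map_sub, map_mul,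
            map_pow, map_one])
      refine ih (N - 1) (by omega) z' ξ' (↑ε⁻¹ * q) hg' hz' ?_
      show algebraMap A K (π * q) / algebraMap A K w ^ p * _ = _
      rw [div_mul_eq_mul_div, div_eq_iff (pow_ne_zero _ hwK), hNK, map_mul, map_mul]
      have h3 : algebraMap A K ↑ε⁻¹ * algebraMap A K ↑ε = 1 := by rw [← map_mul, Units.inv_mul, map_one]
      have h4 : algebraMap A K π ^ N = algebraMap A K π * algebraMap A K π ^ (N - 1) := by
        rw [← pow_succ', Nat.sub_add_cancel hNpos]
      rw [h4]
      linear_combination (-(algebraMap A K π * algebraMap A K π ^ (N - 1) * algebraMap A K q)) * h3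
    · -- a shallow pole
      by_cases hpn : p ∣ n
      swap
      · exact Or.inr (Or.inr (Or.inl (pole_case3 hp hle P hf hdegf ξ z hz hπi hn hpn hu.unit hξ)))
      by_cases hres : ∀ r : A, residue A a ≠ residue A r ^ p
      · exact Or.inr (Or.inr (Or.inr (pole_case4 hp hle hck P hf hdegf ξ z hz hπi hn hpn a hres hξ).1))
      push Not at hres
      obtain ⟨r, hr⟩ := hres
      obtain ⟨m, hm⟩ := hpn
      have hm0 : 0 < m := Nat.pos_of_ne_zero fun h => by simp [h] at hm; omega
      obtain ⟨Q, q, hQ⟩ := exists_pole_eval (K := K) P hf hdegf π (-r) hm0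
      obtain ⟨hQq, hQK⟩ := hQ.resolve_right hπ0
      rw [← hm] at hQK
      set c : K := algebraMap A K (-r) / algebraMap A K π ^ m with hc
      have hQres : residue A Q = (-residue A r) ^ p := by
        rw [hQq, map_add, map_pow, map_mul, (residue_eq_zero_iff π).2 hπi.not_isUnit, zero_mul, add_zero, map_neg]
      have hs : 1 + algebraMap A K w * c ≠ 0 := by
        intro hs
        have h1 := kummer_aeval hP c
        rw [hs, zero_pow hp.ne_zero, zero_sub, hNK] at h1
        have h2 : algebraMap A K (↑ε * π ^ (N - n) * Q) = algebraMap A K (-1) := by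
          rw [map_mul, map_mul, map_pow, map_neg, map_one, hQK, ← h1, show N = N - n + n by omega, pow_add,
            Nat.add_sub_cancel]
          ring
        have h3 := congrArg (residue A) (hinjK h2)
        rw [map_mul, map_mul, map_pow, (residue_eq_zero_iff π).2 hπi.not_isUnit, zero_pow (by omega), mul_zero,
          zero_mul, map_neg, map_one] at h3
        exact neg_ne_zero.2 one_ne_zero h3.symm
      obtain ⟨z', hg', hz'⟩ := htrans z ξ _ (ξ + aeval c P + algebraMap A K w ^ p * ξ * aeval c P) hg hz hs (by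
        linear_combination (1 + algebraMap A K w ^ p * ξ) * kummer_aeval hP c)
      obtain ⟨a', ha'⟩ : π ∣ a + Q + ↑ε * π ^ (N - n) * (a * Q) := by
        rw [← Ideal.mem_span_singleton, ← hπ, ← residue_eq_zero_iff]
        simp only [map_add, map_mul, map_pow, (residue_eq_zero_iff π).2 hπi.not_isUnit,
          zero_pow (show N - n ≠ 0 by omega), mul_zero, zero_mul, add_zero]
        rw [hr, hQres, ← add_pow_char, add_neg_cancel, zero_pow hp.ne_zero]
      refine ih (n - 1) (by omega) z' _ a' hg' hz' (mul_right_cancel₀ hπ0 ?_)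
      have h3 := congrArg (algebraMap A K) ha'
      simp only [map_add, map_mul, map_pow] at h3
      rw [mul_assoc, ← pow_succ, Nat.sub_add_cancel hn, mul_comm (algebraMap A K a'), ← h3, hQK, ← hξ, hNK]
      have h4 : algebraMap A K π ^ N = algebraMap A K π ^ (N - n) * algebraMap A K π ^ n := by
        rw [← pow_add, Nat.sub_add_cancel hNn.le]
      rw [h4]
      ring
  refine ⟨hgal, ?_, ?_, ?_, ?_⟩
  · obtain ⟨⟨a, d⟩, had⟩ := IsLocalization.surj (nonZeroDivisors A) ξ
    obtain ⟨n, v, hdv⟩ := IsDiscreteValuationRing.eq_unit_mul_pow_irreducible (nonZeroDivisors.ne_zero d.2) hπi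
    refine tri n z ξ (a * ↑v⁻¹) hgen hz ?_
    simp only [hdv, map_mul, map_pow] at had
    have h3 : algebraMap A K ↑v * algebraMap A K ↑v⁻¹ = 1 := by rw [← map_mul, Units.mul_inv, map_one]
    rw [map_mul, ← had]
    linear_combination (-ξ * algebraMap A K π ^ n) * h3
  · rintro ⟨a, rfl⟩
    exact hA z hgen a (by rw [hz, ← IsScalarTower.algebraMap_apply])
  · exact fun n a hn hpn hξ => pole_case3 hp hle P hf hdegf ξ z hz hπi hn hpn a hξ
  · exact fun n a hn hpn ha hξ => (pole_case4 hp hle hck P hf hdegf ξ z hz hπi hn hpn a ha hξ).1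

end Groth.Agent.ASKumLib
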